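import Mathlib.GroupTheory.Commutator.Basic
import Mathlib.GroupTheory.Nilpotent
import Mathlib.GroupTheory.PGroup
import Mathlib.GroupTheory.QuotientGroup.Basic
import Mathlib.Algebra.Group.TypeTags.Hom

/-!
Iterated commutators with one element on a section `N / N₀` with `N₀` central in `N`.
-/

set_option autoImplicit false

namespace Cfsg.Agent.LocalEvenD.JSolvable

open scoped commutatorElement

variable {G : Type*} [Group G]

/-- The iterated commutator `[a, [a, …, [a, u]]]`. -/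
def ch (a : G) (i : ℕ) (u : G) : G := (fun n => ⁅a, n⁆)^[i] u

theorem ch_zero (a u : G) : ch a 0 u = u := rfl

theorem ch_succ (a : G) (i : ℕ) (u : G) : ch a (i + 1) u = ⁅a, ch a i u⁆ :=
  Function.iterate_succ_apply' _ _ _

theorem ch_add (a : G) (i j : ℕ) (u : G) : ch a (i + j) u = ch a i (ch a j u) :=
  Function.iterate_add_apply _ _ _ _

/-- In a `p`-group iterated commutators die. -/
theorem exists_ch_eq_one [Finite G] {p : ℕ} [Fact p.Prime] {P : Subgroup G} (hP : IsPGroup p ↥P)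
    {a z : G} (ha : a ∈ P) (hz : z ∈ P) : ∃ n, ch a n z = 1 := by
  obtain ⟨n, hn⟩ := (Subgroup.isNilpotent_iff_lowerCentralSeries P).1 hP.isNilpotent
  refine ⟨n, Subgroup.mem_bot.1 (hn ▸ ?_)⟩
  clear hn
  induction n with
  | zero => exact hz
  | succ n ih =>
    rw [ch_succ, Subgroup.lowerCentralSeries_succ, Subgroup.commutator_comm]
    exact Subgroup.commutator_mem_commutator ha ih

/-- A section `N / N₀` normalised by `A`, with `N₀` central in `N` and `[N, N] ≤ N₀`. -/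
structure IsSect (A N N₀ : Subgroup G) : Prop where
  le : N₀ ≤ N
  conj : ∀ a ∈ A, ∀ n ∈ N, a * n * a⁻¹ ∈ N
  conj₀ : ∀ a ∈ A, ∀ n ∈ N₀, a * n * a⁻¹ ∈ N₀
  central : ∀ n ∈ N, ∀ z ∈ N₀, n * z = z * n
  comm : ∀ x ∈ N, ∀ y ∈ N, ⁅x, y⁆ ∈ N₀

variable {A N N₀ : Subgroup G} (hS : IsSect A N N₀)
include hS

theorem IsSect.tau_mem {a n : G} (ha : a ∈ A) (hn : n ∈ N) : ⁅a, n⁆ ∈ N := by
  rw [commutatorElement_def]; exact mul_mem (hS.conj a ha n hn) (inv_mem hn)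

theorem IsSect.tau_mem₀ {a n : G} (ha : a ∈ A) (hn : n ∈ N₀) : ⁅a, n⁆ ∈ N₀ := by
  rw [commutatorElement_def]; exact mul_mem (hS.conj₀ a ha n hn) (inv_mem hn)

theorem IsSect.ch_mem {a : G} (ha : a ∈ A) : ∀ {u : G}, u ∈ N → ∀ i, ch a i u ∈ N := by
  intro u hu i
  induction i with
  | zero => exact hu
  | succ i ih => rw [ch_succ]; exact hS.tau_mem ha ih

theorem IsSect.ch_mem₀ {a u : G} (ha : a ∈ A) {i : ℕ} (hu : ch a i u ∈ N₀) :
    ∀ {j : ℕ}, i ≤ j → ch a j u ∈ N₀ := by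
  intro j hj
  induction j, hj using Nat.le_induction with
  | base => exact hu
  | succ j _ ih => rw [ch_succ]; exact hS.tau_mem₀ ha ih

theorem IsSect.conj_eq_self {n z : G} (hn : n ∈ N) (hz : z ∈ N₀) : n * z * n⁻¹ = z := by
  rw [hS.central n hn z hz, mul_inv_cancel_right]

/-- An element centralising `N / N₀` induces a homomorphism from `N`. -/
theorem IsSect.comm_mul {b x y : G} (hb : ∀ m ∈ N, ⁅b, m⁆ ∈ N₀) (hx : x ∈ N) (hy : y ∈ N) :
    ⁅b, x * y⁆ = ⁅b, x⁆ * ⁅b, y⁆ := by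
  have e : ⁅b, x * y⁆ = ⁅b, x⁆ * (x * ⁅b, y⁆ * x⁻¹) := by
    simp only [commutatorElement_def]; group
  rw [e, hS.conj_eq_self hx (hb y hy)]

theorem IsSect.comm_mul₀ {a x y : G} (ha : a ∈ A) (hx : x ∈ N₀) (hy : y ∈ N₀) :
    ⁅a, x * y⁆ = ⁅a, x⁆ * ⁅a, y⁆ := by
  have e : ⁅a, x * y⁆ = ⁅a, x⁆ * (x * ⁅a, y⁆ * x⁻¹) := by
    simp only [commutatorElement_def]; group
  rw [e, hS.conj_eq_self (hS.le hx) (hS.tau_mem₀ ha hy)]

theorem IsSect.comm_mul_left {x y z : G} (hx : x ∈ N) (hy : y ∈ N) (hz : z ∈ N) :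
    ⁅x * y, z⁆ = ⁅x, z⁆ * ⁅y, z⁆ := by
  have e : ⁅x * y, z⁆ = (x * ⁅y, z⁆ * x⁻¹) * ⁅x, z⁆ := by
    simp only [commutatorElement_def]; group
  rw [e, hS.conj_eq_self hx (hS.comm y hy z hz),
    hS.central _ (hS.le (hS.comm y hy z hz)) _ (hS.comm x hx z hz)]

/-- Commuting elements commute as operators. -/
theorem IsSect.swap {x b n : G} (hx : x ∈ A) (hxb : b * x = x * b) (hb : ∀ m ∈ N, ⁅b, m⁆ ∈ N₀)
    (hn : n ∈ N) : ⁅x, ⁅b, n⁆⁆ = ⁅b, ⁅x, n⁆⁆ := by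
  have h1 : x * ⁅b, n⁆ * x⁻¹ = ⁅b, ⁅x, n⁆ * n⁆ := by
    have hc : x * b * x⁻¹ = b := by rw [← hxb, mul_inv_cancel_right]
    rw [show ⁅x, n⁆ * n = x * n * x⁻¹ by simp only [commutatorElement_def]; group]
    calc x * ⁅b, n⁆ * x⁻¹ = ⁅x * b * x⁻¹, x * n * x⁻¹⁆ := by
          simp only [commutatorElement_def]; group
      _ = ⁅b, x * n * x⁻¹⁆ := by rw [hc]
  rw [hS.comm_mul hb (hS.tau_mem hx hn) hn] at h1
  rw [commutatorElement_def x, h1, mul_inv_cancel_right]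

/-- The pairing on a chain under its generator. -/
theorem IsSect.form_rel {a x y : G} (ha : a ∈ A) (hx : x ∈ N) (hy : y ∈ N) :
    ⁅a, ⁅x, y⁆⁆ = ⁅⁅a, x⁆, ⁅a, y⁆⁆ * ⁅⁅a, x⁆, y⁆ * ⁅x, ⁅a, y⁆⁆ := by
  have hτx := hS.tau_mem ha hx
  have hτy := hS.tau_mem ha hy
  have h1 : a * ⁅x, y⁆ * a⁻¹ = ⁅⁅a, x⁆ * x, ⁅a, y⁆ * y⁆ := by
    simp only [commutatorElement_def]; group
  rw [hS.comm_mul_left hτx hx (mul_mem hτy hy), hS.comm_mul (hS.comm _ hτx) hτy hy,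
    hS.comm_mul (hS.comm x hx) hτy hy] at h1
  rw [commutatorElement_def a, h1]
  simp only [← mul_assoc, mul_inv_cancel_right]

end Cfsg.Agent.LocalEvenD.JSolvable
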