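import Cfsg.Agent.JFix.Quadratic
import Cfsg.Agent.LocalEvenD.JSolvable.Sec
import Mathlib.GroupTheory.Index

/-!
An abelian subgroup of largest order acting on an abelian group `V`: the centralizers in it of the
commutators `[v, A]` meet in a subgroup `B` with `|B| |C_V(B)| = |A| |C_V(A)|`.
-/

set_option autoImplicit false

namespace Cfsg.Agent.LocalEvenD.JSolvable

open scoped commutatorElement

variable {G : Type*} [Group G]

theorem mem_normalizer_of_conj_le [Finite G] {a : G} {V : Subgroup G}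
    (h : ∀ v ∈ V, a * v * a⁻¹ ∈ V) : a ∈ Subgroup.normalizer (V : Set G) := by
  refine Subgroup.mem_normalizer_iff_map_conj_eq.2 (Subgroup.eq_of_le_of_card_ge ?_
    (Subgroup.card_map_of_injective (MulAut.conj a).injective).ge)
  rintro _ ⟨v, hv, rfl⟩
  exact h v hv

/-- The product inequality. -/
theorem card_mul_card_le [Finite G] (X Y : Subgroup G) :
    Nat.card X * Nat.card Y ≤ Nat.card ↥(X ⊔ Y) * Nat.card ↥(X ⊓ Y) := by
  have h1 : (X ⊓ Y).relIndex Y ≤ X.relIndex (X ⊔ Y) := by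
    rw [Subgroup.inf_relIndex_right]
    exact Subgroup.relIndex_le_of_le_right le_sup_right Subgroup.FiniteIndex.index_ne_zero
  have h2 := Subgroup.relIndex_mul_relIndex ⊥ (X ⊓ Y) Y bot_le inf_le_right
  have h3 := Subgroup.relIndex_mul_relIndex ⊥ X (X ⊔ Y) bot_le le_sup_left
  rw [Subgroup.relIndex_bot_left, Subgroup.relIndex_bot_left] at h2 h3
  rw [← h2, ← h3]
  calc Nat.card X * (Nat.card ↥(X ⊓ Y) * (X ⊓ Y).relIndex Y)
      = Nat.card X * (X ⊓ Y).relIndex Y * Nat.card ↥(X ⊓ Y) := by ring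
    _ ≤ _ := Nat.mul_le_mul_right _ (Nat.mul_le_mul_left _ h1)

/-- A proper inclusion of subgroups of a finite `p`-group gains a factor `p`. -/
theorem mul_card_le_of_lt [Finite G] {p : ℕ} [hp : Fact p.Prime] {X Y : Subgroup G} (h : X < Y)
    (hY : IsPGroup p ↥Y) : p * Nat.card X ≤ Nat.card Y := by
  obtain ⟨i, hi⟩ := (hY.to_le h.le).exists_card_eq
  obtain ⟨j, hj⟩ := hY.exists_card_eq
  have hlt : Nat.card X < Nat.card Y :=
    lt_of_le_of_ne (Subgroup.card_le_of_le h.le) fun he =>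
      h.ne (Subgroup.eq_of_le_of_card_ge h.le he.ge)
  rw [hi, hj] at hlt ⊢
  rw [← pow_succ']
  exact Nat.pow_le_pow_right hp.out.pos ((Nat.pow_lt_pow_iff_right hp.out.one_lt).1 hlt)

theorem isMulCommutative_sup {X Y : Subgroup G} (hX : IsMulCommutative X) (hY : IsMulCommutative Y)
    (h : ∀ x ∈ X, ∀ y ∈ Y, y * x = x * y) : IsMulCommutative ↥(X ⊔ Y) := by
  rw [← Subgroup.le_centralizer_iff_isMulCommutative] at hX hY ⊢
  have h1 : Y ≤ Subgroup.centralizer (X : Set G) := fun y hy =>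
    Subgroup.mem_centralizer_iff.2 fun x hx => (h x hx y hy).symm
  have h2 : X ≤ Subgroup.centralizer ((X ⊔ Y : Subgroup G) : Set G) :=
    Subgroup.le_centralizer_iff.1 (sup_le hX h1)
  have h3 : Y ≤ Subgroup.centralizer ((X ⊔ Y : Subgroup G) : Set G) :=
    Subgroup.le_centralizer_iff.1 (sup_le (Subgroup.le_centralizer_iff.1 h1) hY)
  exact sup_le h2 h3

theorem mem_sup_zpowers {X : Subgroup G} {y g : G} (h : ∀ x ∈ X, y * x = x * y)
    (hg : g ∈ X ⊔ Subgroup.zpowers y) : ∃ x ∈ X, ∃ j : ℤ, g = x * y ^ j := by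
  have hn : Subgroup.zpowers y ≤ Subgroup.normalizer (X : Set G) := Subgroup.zpowers_le.2 <|
    Subgroup.centralizer_le_normalizer _ (Subgroup.mem_centralizer_iff.2 fun x hx => (h x hx).symm)
  rw [← SetLike.mem_coe, Subgroup.coe_mul_of_right_le_normalizer_left X _ hn] at hg
  obtain ⟨x, hx, z, hz, rfl⟩ := hg
  obtain ⟨j, rfl⟩ := Subgroup.mem_zpowers_iff.1 hz
  exact ⟨x, hx, j, rfl⟩

/-- Timmesfeld's subgroup for an abelian subgroup of largest order. -/
theorem exists_offender [Finite G] {P A V : Subgroup G} (hAP : A ≤ P) (hAc : IsMulCommutative A)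
    (hmax : ∀ B : Subgroup G, B ≤ P → IsMulCommutative B → Nat.card B ≤ Nat.card A)
    (hVP : V ≤ P) (hVc : IsMulCommutative V) (hAV : A ≤ Subgroup.normalizer (V : Set G)) :
    ∃ B ≤ A, (∀ c ∈ B, ∀ b ∈ A, ∀ v ∈ V, c * ⁅b, v⁆ = ⁅b, v⁆ * c) ∧
      Nat.card A ≤ Nat.card ↥(B ⊔ (V ⊓ Subgroup.centralizer (B : Set G))) := by
  classical
  let C : Subgroup G → Subgroup G := fun X => V ⊓ Subgroup.centralizer (X : Set G)
  let m : Subgroup G → ℕ := fun X => Nat.card X * Nat.card ↥(C X)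
  have hAA : A ≤ Subgroup.centralizer (A : Set G) :=
    Subgroup.le_centralizer_iff_isMulCommutative.2 hAc
  have hCc : ∀ {X}, X ≤ A → IsMulCommutative ↥(X ⊔ C X) := fun {X} hX => by
    refine isMulCommutative_sup (Subgroup.le_centralizer_iff_isMulCommutative.1
      (hX.trans (hAA.trans (Subgroup.centralizer_le hX)))) ?_ fun x hx y hy =>
      (Subgroup.mem_centralizer_iff.1 hy.2 x hx).symm
    exact Subgroup.le_centralizer_iff_isMulCommutative.1 (inf_le_left.trans
      ((Subgroup.le_centralizer_iff_isMulCommutative.2 hVc).trans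
        (Subgroup.centralizer_le (inf_le_left : C X ≤ V))))
  have hinf : ∀ {X}, X ≤ A → X ⊓ C X ≤ C A := fun hX =>
    le_inf (inf_le_right.trans inf_le_left) (inf_le_left.trans (hX.trans hAA))
  have hle : ∀ {X}, X ≤ A → m X ≤ Nat.card ↥(X ⊔ C X) * Nat.card ↥(C A) := fun {X} hX =>
    (card_mul_card_le X (C X)).trans (Nat.mul_le_mul_left _ (Subgroup.card_le_of_le (hinf hX)))
  have hmle : ∀ {X}, X ≤ A → m X ≤ m A := fun {X} hX => (hle hX).trans
    (Nat.mul_le_mul_right _ (hmax _ (sup_le (hX.trans hAP) (inf_le_left.trans hVP)) (hCc hX)))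
  have hcap : ∀ {X Y}, X ≤ A → Y ≤ A → m A ≤ m X → m A ≤ m Y → m A ≤ m (X ⊓ Y) := by
    intro X Y hX hY hmX hmY
    have h1 := card_mul_card_le X Y
    have h2 := card_mul_card_le (C X) (C Y)
    have h3 : C X ⊔ C Y ≤ C (X ⊓ Y) := sup_le
      (inf_le_inf_left _ (Subgroup.centralizer_le (inf_le_left : X ⊓ Y ≤ X)))
      (inf_le_inf_left _ (Subgroup.centralizer_le (inf_le_right : X ⊓ Y ≤ Y)))
    have h4 : C X ⊓ C Y ≤ C (X ⊔ Y) := le_inf (inf_le_left.trans inf_le_left)
      (Subgroup.le_centralizer_iff.1 (sup_le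
        (Subgroup.le_centralizer_iff.1 (inf_le_left.trans inf_le_right))
        (Subgroup.le_centralizer_iff.1 (inf_le_right.trans inf_le_right))))
    have h5 : m X * m Y ≤ m (X ⊓ Y) * m A := by
      calc m X * m Y = Nat.card X * Nat.card Y * (Nat.card ↥(C X) * Nat.card ↥(C Y)) := by
            simp only [m]; ring
        _ ≤ Nat.card ↥(X ⊔ Y) * Nat.card ↥(X ⊓ Y) *
            (Nat.card ↥(C (X ⊓ Y)) * Nat.card ↥(C (X ⊔ Y))) :=
          Nat.mul_le_mul h1 (h2.trans (Nat.mul_le_mul (Subgroup.card_le_of_le h3)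
            (Subgroup.card_le_of_le h4)))
        _ = m (X ⊓ Y) * m (X ⊔ Y) := by simp only [m]; ring
        _ ≤ _ := Nat.mul_le_mul_left _ (hmle (sup_le hX hY))
    exact Nat.le_of_mul_le_mul_right ((Nat.mul_le_mul hmX hmY).trans h5)
      (Nat.mul_pos Nat.card_pos Nat.card_pos)
  let B : G → Subgroup G := fun v =>
    A ⊓ Subgroup.centralizer (Subgroup.closure ((fun b => ⁅b, v⁆) '' (A : Set G)) : Set G)
  have hB : ∀ v ∈ V, m A ≤ m (B v) := fun v hv => by
    obtain ⟨h1, h2⟩ := JFix.card_step hAV hVc le_rfl hAc hv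
    exact h1.trans (Nat.mul_le_mul_left _ (Subgroup.card_le_of_le h2))
  haveI : Fintype G := Fintype.ofFinite G
  have hfin : ∀ s : Finset G, (∀ v ∈ s, v ∈ V) → ∃ X ≤ A, m A ≤ m X ∧ ∀ v ∈ s, X ≤ B v := by
    intro s
    induction s using Finset.induction with
    | empty => intro _; exact ⟨A, le_rfl, le_rfl, by simp⟩
    | insert v s _ ih =>
      intro hs
      obtain ⟨X, hXA, hmX, hX⟩ := ih fun w hw => hs w (Finset.mem_insert_of_mem hw)
      refine ⟨X ⊓ B v, inf_le_left.trans hXA,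
        hcap hXA inf_le_left hmX (hB v (hs v (Finset.mem_insert_self v s))), fun w hw => ?_⟩
      rcases Finset.mem_insert.1 hw with rfl | hw
      · exact inf_le_right
      · exact inf_le_left.trans (hX w hw)
  obtain ⟨X, hXA, hmX, hX⟩ := hfin (Finset.univ.filter (· ∈ V)) (by simp)
  refine ⟨X, hXA, fun c hc b hb v hv => ?_, ?_⟩
  · exact (Subgroup.mem_centralizer_iff.1 (hX v (by simpa using hv) hc).2 _
      (Subgroup.subset_closure ⟨b, hb, rfl⟩)).symm
  · exact Nat.le_of_mul_le_mul_right ((hmX.trans (hle hXA))) Nat.card_pos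

end Cfsg.Agent.LocalEvenD.JSolvable
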