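import Cfsg.Agent.LocalEvenD.JSolvable.Form
import Cfsg.Agent.LocalEvenD.JSolvable.Offender

/-!
An element of an abelian subgroup of largest order of a `p`-group, `p ≥ 5`, acts with degree less
than `p` on the sections centralized by a subgroup of index `p` containing the rest.
-/

set_option autoImplicit false

namespace Cfsg.Agent.LocalEvenD.JSolvable

open scoped commutatorElement

variable {G : Type*} [Group G]

/-- The long chain is impossible. -/
theorem no_long_chain [Finite G] {p : ℕ} [hpf : Fact p.Prime] (hp : 5 ≤ p) {P A A₁ N N₀ : Subgroup G}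
    (hP : IsPGroup p ↥P) (hAP : A ≤ P) (hAc : IsMulCommutative A)
    (hmax : ∀ B : Subgroup G, B ≤ P → IsMulCommutative B → Nat.card B ≤ Nat.card A)
    (hA₁ : A₁ ≤ A) (hne : ¬ A ≤ A₁) (hidx : Nat.card A ≤ p * Nat.card A₁)
    (hNP : N ≤ P) (hS : IsSect A N N₀) (hA₁N : ∀ b ∈ A₁, ∀ n ∈ N, ⁅b, n⁆ ∈ N₀)
    (hchain : ∀ a ∈ A, a ∉ A₁ → ∃ u ∈ N, ch a (p - 1) u ∉ N₀ ∧ ch a p u ∈ N₀) : False := by
  have hab : ∀ x ∈ A, ∀ y ∈ A, x * y = y * x := fun x hx y hy =>
    JFix.comm_of_isMulCommutative hAc hx hy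
  have hNc : IsMulCommutative N₀ := Subgroup.le_centralizer_iff_isMulCommutative.1 fun x hx =>
    Subgroup.mem_centralizer_iff.2 fun y hy => hS.central y (hS.le hy) x hx
  have hA₁N₀ : ∀ b ∈ A₁, ∀ m ∈ N₀, ⁅b, m⁆ ∈ N₀ := fun b hb m hm => hS.tau_mem₀ (hA₁ hb) hm
  have hA₁c : IsMulCommutative A₁ := Subgroup.le_centralizer_iff_isMulCommutative.1
    (hA₁.trans ((Subgroup.le_centralizer_iff_isMulCommutative.2 hAc).trans
      (Subgroup.centralizer_le hA₁)))
  -- `[b, ·]` commutes with the chain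
  have hδ : ∀ b ∈ A₁, ∀ a ∈ A, ∀ u ∈ N, ∀ i, ⁅b, ch a i u⁆ = ch a i ⁅b, u⁆ := by
    intro b hb a ha u hu i
    induction i with
    | zero => rfl
    | succ i ih =>
      rw [ch_succ, ch_succ, ← hS.swap ha (hab b (hA₁ hb) a ha) (hA₁N b hb) (hS.ch_mem ha hu i), ih]
  have hlow : ∀ a ∈ A, ∀ u, ch a (p - 1) u ∉ N₀ → ∀ i, i ≤ p - 1 → ch a i u ∉ N₀ :=
    fun a ha u hu i hi hmem => hu (hS.ch_mem₀ ha hmem hi)
  -- quadratic action on the fixed points of `A₁`
  have hX : ∀ a ∈ A, ∀ z ∈ N₀, (∀ b ∈ A₁, ⁅b, z⁆ = 1) → ⁅a, ⁅a, z⁆⁆ = 1 := by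
    intro a ha z hz hzb
    by_cases hz' : ⁅a, z⁆ ∈ A₁
    · exact commutatorElement_eq_one_iff_mul_comm.2 (hab a ha _ (hA₁ hz'))
    set w := ⁅a, z⁆ with hw
    have hwN : w ∈ N₀ := hS.tau_mem₀ ha hz
    have hwb : ∀ b ∈ A₁, ⁅b, w⁆ = 1 := fun b hb => by
      rw [hw, ← hS.swap ha (hab b (hA₁ hb) a ha) (hA₁N b hb) (hS.le hz), hzb b hb,
        commutatorElement_one_right]
    have hcomm : ∀ y ∈ N₀, (∀ b ∈ A₁, ⁅b, y⁆ = 1) → ∀ b ∈ A₁, y * b = b * y := fun y _ h b hb =>
      (commutatorElement_eq_one_iff_mul_comm.1 (h b hb)).symm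
    set Y := A₁ ⊔ Subgroup.zpowers w with hY
    set Z := Y ⊔ Subgroup.zpowers z with hZ
    have hYc : IsMulCommutative ↥Y := isMulCommutative_sup hA₁c inferInstance fun x hx y hy => by
      obtain ⟨j, rfl⟩ := Subgroup.mem_zpowers_iff.1 hy
      exact ((show Commute w x from hcomm w hwN hwb x hx).zpow_left j).eq
    have hzY : ∀ x ∈ Y, z * x = x * z := by
      have : Y ≤ Subgroup.centralizer {z} := sup_le
        (fun b hb => Subgroup.mem_centralizer_singleton_iff.2 (hcomm z hz hzb b hb).symm)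
        (Subgroup.zpowers_le.2 (Subgroup.mem_centralizer_singleton_iff.2
          (hS.central w (hS.le hwN) z hz)))
      exact fun x hx => (Subgroup.mem_centralizer_singleton_iff.1 (this hx)).symm
    have hZc : IsMulCommutative ↥Z := isMulCommutative_sup hYc inferInstance fun x hx y hy => by
      obtain ⟨j, rfl⟩ := Subgroup.mem_zpowers_iff.1 hy
      exact ((show Commute z x from hzY x hx).zpow_left j).eq
    have hZP : Z ≤ P := sup_le (sup_le (hA₁.trans hAP)
      (Subgroup.zpowers_le.2 (hNP (hS.le hwN)))) (Subgroup.zpowers_le.2 (hNP (hS.le hz)))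
    have h1 : A₁ < Y := lt_of_le_of_ne le_sup_left fun he =>
      hz' (he ▸ Subgroup.mem_sup_right (Subgroup.mem_zpowers w))
    have h2 : Y = Z := Subgroup.eq_of_le_of_card_ge le_sup_left (((hmax Z hZP hZc).trans hidx).trans
      (mul_card_le_of_lt h1 (hP.to_le (le_sup_left.trans hZP))))
    obtain ⟨b, hb, j, hzj⟩ := mem_sup_zpowers (hcomm w hwN hwb)
      (show z ∈ A₁ ⊔ Subgroup.zpowers w from
        h2.ge (Subgroup.mem_sup_right (Subgroup.mem_zpowers z)))
    -- `w = [a, w]^j`, so `w` dies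
    have hw1 : ∀ i, ch a i w = ch a (i + 1) w ^ j := by
      intro i
      induction i with
      | zero =>
        rw [ch_zero, ch_succ, ch_zero]
        nth_rw 1 [hw]
        rw [hzj]
        have hd : ⁅a, b * w ^ j⁆ = b * ⁅a, w ^ j⁆ * b⁻¹ := by
          rw [show ⁅a, b * w ^ j⁆ = ⁅a, b⁆ * (b * ⁅a, w ^ j⁆ * b⁻¹) by
            simp only [commutatorElement_def]; group,
            commutatorElement_eq_one_iff_mul_comm.2 (hab a ha b (hA₁ hb)), one_mul]
        rw [hd]
        have hwj : w ^ j ∈ N₀ := zpow_mem hwN j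
        have haw : ⁅a, w ^ j⁆ = ⁅a, w⁆ ^ j := by
          have := map_zpow (MonoidHom.mk' (fun y : ↥N₀ => (⟨⁅a, (y : G)⁆, hS.tau_mem₀ ha y.2⟩ : ↥N₀))
            fun x y => Subtype.ext (hS.comm_mul₀ ha x.2 y.2))
            ⟨w, hwN⟩ j
          exact congrArg Subtype.val this
        rw [haw]
        have hbw : ⁅b, ⁅a, w⁆⁆ = 1 := by
          rw [← hS.swap ha (hab b (hA₁ hb) a ha) (hA₁N b hb) (hS.le hwN), hwb b hb,
            commutatorElement_one_right]
        have := ((show Commute b ⁅a, w⁆ from commutatorElement_eq_one_iff_mul_comm.1 hbw).zpow_right j).eq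
        rw [this, mul_inv_cancel_right]
      | succ i ih =>
        have h3 := congrArg (fun y => ⁅a, y⁆) ih
        simp only [← ch_succ] at h3
        rw [h3]
        have hmem : ch a (i + 1) w ∈ N₀ := hS.ch_mem₀ ha (i := 0) hwN (by omega)
        have := map_zpow (MonoidHom.mk' (fun y : ↥N₀ => (⟨⁅a, (y : G)⁆, hS.tau_mem₀ ha y.2⟩ : ↥N₀))
          fun x y => Subtype.ext (hS.comm_mul₀ ha x.2 y.2))
          ⟨_, hmem⟩ j
        exact (congrArg Subtype.val this).trans (by rw [ch_succ a (i + 1)]; rfl)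
    obtain ⟨n, hn⟩ := exists_ch_eq_one hP (hAP ha) (hNP (hS.le hwN))
    have hdown : ∀ k i, i + k = n → ch a i w = 1 := by
      intro k
      induction k with
      | zero => intro i hi; rw [show i = n by omega]; exact hn
      | succ k ih => intro i hi; rw [hw1 i, ih (i + 1) (by omega), one_zpow]
    exact absurd (hdown n 0 (zero_add n)) fun he =>
      hz' (by rw [ch_zero] at he; rw [he]; exact one_mem _)
  -- Timmesfeld's subgroup
  have hnorm : A ≤ Subgroup.normalizer (N₀ : Set G) := fun a ha =>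
    mem_normalizer_of_conj_le (hS.conj₀ a ha)
  obtain ⟨B, hBA, hBM, hBcard⟩ := exists_offender hAP hAc hmax (hS.le.trans hNP) hNc hnorm
  by_cases hBA₁ : B ≤ A₁
  · -- an element outside `A₁` and the element `ch a 3 u`
    obtain ⟨a, ha, ha₁⟩ := SetLike.not_le_iff_exists.1 hne
    obtain ⟨u, hu, hu₁, -⟩ := hchain a ha ha₁
    set l := ch a 3 u with hl
    have hlN : l ∈ N := hS.ch_mem ha hu 3
    set C := N₀ ⊓ Subgroup.centralizer (B : Set G) with hC
    have hlc : ∀ c ∈ B, ⁅c, l⁆ = 1 := by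
      intro c hc
      have hcA₁ := hBA₁ hc
      have hd : ⁅c, u⁆ ∈ N₀ := hA₁N c hcA₁ u hu
      have hkey : ∀ b ∈ A₁, ⁅b, ⁅a, ⁅c, u⁆⁆⁆ = 1 := by
        intro b hb
        have hbu := hA₁N b hb u hu
        rw [← hS.swap ha (hab b (hA₁ hb) a ha) (hA₁N b hb) (hS.le hd),
          hS.swap (hA₁ hb) (hab c (hA₁ hcA₁) b (hA₁ hb)) (hA₁N c hcA₁) hu,
          hS.swap ha (hab c (hA₁ hcA₁) a ha) (hA₁N c hcA₁) (hS.le hbu)]
        exact commutatorElement_eq_one_iff_mul_comm.2 (hBM c hc a ha _ hbu)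
      rw [hl, hδ c hcA₁ a ha u hu 3, ch_succ, ch_succ, ch_succ, ch_zero]
      exact hX a ha _ (hS.tau_mem₀ ha hd) hkey
    have hcl : ∀ x ∈ B ⊔ C, l * x = x * l := by
      have : B ⊔ C ≤ Subgroup.centralizer {l} := sup_le
        (fun c hc => Subgroup.mem_centralizer_singleton_iff.2
          (commutatorElement_eq_one_iff_mul_comm.1 (hlc c hc)))
        (fun z hz => Subgroup.mem_centralizer_singleton_iff.2 (hS.central l hlN z hz.1).symm)
      exact fun x hx => (Subgroup.mem_centralizer_singleton_iff.1 (this hx)).symm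
    have hBc : IsMulCommutative B := Subgroup.le_centralizer_iff_isMulCommutative.1
      (hBA.trans ((Subgroup.le_centralizer_iff_isMulCommutative.2 hAc).trans
        (Subgroup.centralizer_le hBA)))
    have hCc : IsMulCommutative C := Subgroup.le_centralizer_iff_isMulCommutative.1
      (inf_le_left.trans ((Subgroup.le_centralizer_iff_isMulCommutative.2 hNc).trans
        (Subgroup.centralizer_le (inf_le_left : C ≤ N₀))))
    have hBCc : IsMulCommutative ↥(B ⊔ C) := isMulCommutative_sup hBc hCc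
      fun x hx y hy => (Subgroup.mem_centralizer_iff.1 hy.2 x hx).symm
    have hlt : B ⊔ C < B ⊔ C ⊔ Subgroup.zpowers l := by
      refine lt_of_le_of_ne le_sup_left fun he => ?_
      have hmem : l ∈ B ⊔ C := he ▸ Subgroup.mem_sup_right (Subgroup.mem_zpowers l)
      have hBn : C ≤ Subgroup.normalizer (B : Set G) :=
        inf_le_right.trans (Subgroup.centralizer_le_normalizer _)
      rw [← SetLike.mem_coe, Subgroup.coe_mul_of_right_le_normalizer_left B C hBn] at hmem
      obtain ⟨c, hc, z, hz, hcz⟩ := hmem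
      refine hlow a ha u hu₁ 4 (by omega) ?_
      rw [ch_succ, ← hl, ← hcz]
      show ⁅a, c * z⁆ ∈ N₀
      rw [show ⁅a, c * z⁆ = ⁅a, c⁆ * (c * ⁅a, z⁆ * c⁻¹) by simp only [commutatorElement_def]; group,
        commutatorElement_eq_one_iff_mul_comm.2 (hab a ha c (hBA hc)), one_mul]
      exact hS.conj₀ c (hBA hc) _ (hS.tau_mem₀ ha hz.1)
    have hP' : B ⊔ C ⊔ Subgroup.zpowers l ≤ P :=
      sup_le (sup_le (hBA.trans hAP) (inf_le_left.trans (hS.le.trans hNP)))
        (Subgroup.zpowers_le.2 (hNP hlN))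
    have hc' : IsMulCommutative ↥(B ⊔ C ⊔ Subgroup.zpowers l) :=
      isMulCommutative_sup hBCc inferInstance fun x hx y hy => by
        obtain ⟨j, rfl⟩ := Subgroup.mem_zpowers_iff.1 hy
        exact ((show Commute l x from hcl x hx).zpow_left j).eq
    have h1 := (mul_card_le_of_lt hlt (hP.to_le hP')).trans (hmax _ hP' hc')
    have h2 : 0 < Nat.card A := Nat.card_pos
    have h3 : p * Nat.card A ≤ Nat.card A := (Nat.mul_le_mul_left p hBcard).trans h1
    nlinarith
  · -- a quadratic element outside `A₁`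
    obtain ⟨a, haB, ha₁⟩ := SetLike.not_le_iff_exists.1 hBA₁
    have ha := hBA haB
    have hquad : ∀ z ∈ N₀, ⁅a, ⁅a, z⁆⁆ = 1 := fun z hz =>
      commutatorElement_eq_one_iff_mul_comm.2 (hBM a haB a ha z hz)
    obtain ⟨u, hu, hu₁, hu₂⟩ := hchain a ha ha₁
    obtain ⟨h, hph⟩ : ∃ h, p = 2 * h + 1 := by
      rcases hpf.out.eq_two_or_odd' with h | h
      · omega
      · exact h
    have hz2 : ∀ z ∈ N₀, ∀ i, 2 ≤ i → ch a i z = 1 := by
      intro z hz i hi
      induction i, hi using Nat.le_induction with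
      | base => rw [ch_succ, ch_succ, ch_zero, hquad z hz]
      | succ i _ ih => rw [ch_succ, ih, commutatorElement_one_right]
    set l := ch a h u with hl
    set l' := ch a (h + 1) u with hl'
    have hlN : l ∈ N := hS.ch_mem ha hu h
    have hlN' : l' ∈ N := hS.ch_mem ha hu (h + 1)
    have hlb : ∀ i, 2 ≤ i → ∀ b ∈ A₁, ch a i u * b = b * ch a i u := fun i hi b hb =>
      (commutatorElement_eq_one_iff_mul_comm.1
        (by rw [hδ b hb a ha u hu i, hz2 _ (hA₁N b hb u hu) i hi])).symm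
    -- the pairing
    have hll : l * l' = l' * l := by
      letI : CommGroup ↥N₀ := { (inferInstance : Group ↥N₀) with
        mul_comm := fun x y => Subtype.ext (hS.central x (hS.le x.2) y y.2) }
      let T : Additive ↥N₀ →+ Additive ↥N₀ := MonoidHom.toAdditive
        (MonoidHom.mk' (fun y : ↥N₀ => (⟨⁅a, (y : G)⁆, hS.tau_mem₀ ha y.2⟩ : ↥N₀))
          fun x y => Subtype.ext (hS.comm_mul₀ ha x.2 y.2))
      let F : ℕ → ℕ → Additive ↥N₀ := fun i j =>
        Additive.ofMul ⟨⁅ch a i u, ch a j u⁆, hS.comm _ (hS.ch_mem ha hu i) _ (hS.ch_mem ha hu j)⟩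
      have h0 := form_middle_eq_zero T (fun x => Additive.toMul.injective (Subtype.ext
        (hquad _ (Additive.toMul x).2))) F (p := p)
        (fun i j => Additive.toMul.injective (Subtype.ext (by
          show ⁅a, ⁅ch a i u, ch a j u⁆⁆ = ⁅ch a (i + 1) u, ch a (j + 1) u⁆ *
            ⁅ch a (i + 1) u, ch a j u⁆ * ⁅ch a i u, ch a (j + 1) u⁆
          rw [ch_succ, ch_succ]
          exact hS.form_rel ha (hS.ch_mem ha hu i) (hS.ch_mem ha hu j))))
        (fun i j hi => Additive.toMul.injective (Subtype.ext (by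
          show ⁅ch a i u, ch a j u⁆ = 1
          exact commutatorElement_eq_one_iff_mul_comm.2
            (hS.central _ (hS.ch_mem ha hu j) _ (hS.ch_mem₀ ha hu₂ hi)).symm)))
        hph
        (fun i j => Additive.toMul.injective (Subtype.ext (commutatorElement_inv _ _).symm))
        (fun i => Additive.toMul.injective (Subtype.ext (commutatorElement_self _)))
      exact commutatorElement_eq_one_iff_mul_comm.1
        (congrArg (fun x : Additive ↥N₀ => ((Additive.toMul x : ↥N₀) : G)) h0)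
    set R₁ := A₁ ⊔ Subgroup.zpowers l' with hR₁
    have hl'b : ∀ b ∈ A₁, l' * b = b * l' := hlb (h + 1) (by omega)
    have hR₁c : IsMulCommutative ↥R₁ := isMulCommutative_sup hA₁c inferInstance fun x hx y hy => by
      obtain ⟨j, rfl⟩ := Subgroup.mem_zpowers_iff.1 hy
      exact ((show Commute l' x from hl'b x hx).zpow_left j).eq
    have hlR₁ : ∀ x ∈ R₁, l * x = x * l := by
      have : R₁ ≤ Subgroup.centralizer {l} := sup_le
        (fun b hb => Subgroup.mem_centralizer_singleton_iff.2 (hlb h (by omega) b hb).symm)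
        (Subgroup.zpowers_le.2 (Subgroup.mem_centralizer_singleton_iff.2 hll.symm))
      exact fun x hx => (Subgroup.mem_centralizer_singleton_iff.1 (this hx)).symm
    set R₂ := R₁ ⊔ Subgroup.zpowers l with hR₂
    have hR₂P : R₂ ≤ P := sup_le (sup_le (hA₁.trans hAP) (Subgroup.zpowers_le.2 (hNP hlN')))
      (Subgroup.zpowers_le.2 (hNP hlN))
    have hR₂c : IsMulCommutative ↥R₂ := isMulCommutative_sup hR₁c inferInstance fun x hx y hy => by
      obtain ⟨j, rfl⟩ := Subgroup.mem_zpowers_iff.1 hy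
      exact ((show Commute l x from hlR₁ x hx).zpow_left j).eq
    have h1 : A₁ < R₁ := by
      refine lt_of_le_of_ne le_sup_left fun he => hlow a ha u hu₁ (h + 2) (by omega) ?_
      rw [ch_succ, ← hl', commutatorElement_eq_one_iff_mul_comm.2
        (hab a ha l' (hA₁ (he ▸ Subgroup.mem_sup_right (Subgroup.mem_zpowers l'))))]
      exact one_mem _
    have h2 : R₁ < R₂ := by
      refine lt_of_le_of_ne le_sup_left fun he => hlow a ha u hu₁ (h + 1) (by omega) ?_
      obtain ⟨b, hb, j, hlj⟩ := mem_sup_zpowers hl'b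
        (show l ∈ R₁ from he ▸ Subgroup.mem_sup_right (Subgroup.mem_zpowers l))
      -- work modulo `N₀`
      haveI : (N₀.subgroupOf N).Normal := ⟨fun z hz n => by
        rw [Subgroup.mem_subgroupOf] at hz ⊢
        show (n : G) * z * (n : G)⁻¹ ∈ N₀
        rw [hS.conj_eq_self n.2 hz]; exact hz⟩
      let Q := ↥N ⧸ N₀.subgroupOf N
      let π : ↥N →* Q := QuotientGroup.mk' _
      have hπ : ∀ x : ↥N, π x = 1 ↔ (x : G) ∈ N₀ := fun x => by
        rw [QuotientGroup.mk'_apply, QuotientGroup.eq_one_iff, Subgroup.mem_subgroupOf]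
      let ψ : ↥N →* Q := MonoidHom.mk' (fun x => π ⟨⁅a, (x : G)⁆, hS.tau_mem ha x.2⟩) fun x y => by
        rw [← map_mul]
        refine (QuotientGroup.eq.2 ?_)
        rw [Subgroup.mem_subgroupOf]
        show (⁅a, (x : G) * y⁆)⁻¹ * (⁅a, (x : G)⁆ * ⁅a, (y : G)⁆) ∈ N₀
        have hm := hS.comm (x : G) x.2 ⁅a, (y : G)⁆ (hS.tau_mem ha y.2)
        have e : ⁅a, (x : G) * y⁆ = ⁅a, (x : G)⁆ * (⁅(x : G), ⁅a, (y : G)⁆⁆ * ⁅a, (y : G)⁆) := by
          simp only [commutatorElement_def]; group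
        rw [e, hS.central ⁅a, (y : G)⁆ (hS.tau_mem ha y.2) _ hm |>.symm,
          show ∀ A t c : G, (A * (t * c))⁻¹ * (A * t) = c⁻¹ from fun A t c => by group]
        exact inv_mem hm
      have hker : N₀.subgroupOf N ≤ ψ.ker := fun x hx =>
        MonoidHom.mem_ker.2 ((hπ _).2 (hS.tau_mem₀ ha (Subgroup.mem_subgroupOf.1 hx)))
      let τ : Q →* Q := QuotientGroup.lift _ ψ hker
      let e : ℕ → Q := fun i => π ⟨ch a i u, hS.ch_mem ha hu i⟩
      have hτe : ∀ i, τ (e i) = e (i + 1) := fun i => congrArg π (Subtype.ext (ch_succ a i u).symm)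
      have hbN : b ∈ N := by
        have : b = l * (l' ^ j)⁻¹ := by rw [hlj, mul_inv_cancel_right]
        rw [this]; exact mul_mem hlN (inv_mem (zpow_mem hlN' j))
      have h0 : e h = π ⟨b, hbN⟩ * e (h + 1) ^ j := by
        rw [← map_zpow, ← map_mul]
        exact congrArg π (Subtype.ext hlj)
      have hb1 : τ (π ⟨b, hbN⟩) = 1 := (hπ _).2 (by
        show ⁅a, b⁆ ∈ N₀
        rw [commutatorElement_eq_one_iff_mul_comm.2 (hab a ha b (hA₁ hb))]
        exact one_mem _)
      have hstep : ∀ i, e (h + 1 + i) = e (h + 1 + i + 1) ^ j := by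
        intro i
        induction i with
        | zero => rw [add_zero, ← hτe, h0, map_mul, hb1, one_mul, map_zpow, hτe]
        | succ i ih => rw [← add_assoc, ← hτe, ih, map_zpow, hτe]
      have hdown : ∀ k i, h + 1 + i + k = p → e (h + 1 + i) = 1 := by
        intro k
        induction k with
        | zero => intro i hi; exact (hπ _).2 (show ch a (h + 1 + i) u ∈ N₀ by
            rw [show h + 1 + i = p by omega]; exact hu₂)
        | succ k ih =>
          intro i hi
          have := ih (i + 1) (by omega)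
          rw [← add_assoc] at this
          rw [hstep i, this, one_zpow]
      exact (hπ _).1 (hdown h 0 (by omega))
    have k1 := mul_card_le_of_lt h1 (hP.to_le (le_sup_left.trans hR₂P))
    have k2 := mul_card_le_of_lt h2 (hP.to_le hR₂P)
    have k3 := hmax _ hR₂P hR₂c
    have k4 : 0 < Nat.card A₁ := Nat.card_pos
    have k5 : p * (p * Nat.card A₁) ≤ p * Nat.card A₁ :=
      (Nat.mul_le_mul_left p k1).trans (k2.trans (k3.trans hidx))
    nlinarith

end Cfsg.Agent.LocalEvenD.JSolvable
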