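import Cfsg.Agent.ConjFunctor.Unipotent
import Mathlib.GroupTheory.PGroup
import Mathlib.Algebra.Ring.GeomSum
import Mathlib.Algebra.CharP.Lemmas
import Mathlib.GroupTheory.OrderOfElement

/-!
A `p`-group and a commuting `p'`-element acting on an additive `p`-group, and long chains of an
element normalising an abelian `p'`-group.
-/

set_option autoImplicit false

namespace Cfsg.Agent.LocalEvenD.JSolvable

variable {U : Type*} [AddCommGroup U]

/-- The unit group of the endomorphism ring. -/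
abbrev AutU (U : Type*) [AddCommGroup U] : Type _ := (AddMonoid.End U)ˣ

theorem end_mul_apply (f g : AddMonoid.End U) (x : U) : (f * g) x = f (g x) := rfl

theorem end_one_apply (x : U) : (1 : AddMonoid.End U) x = x := rfl

theorem end_sub_one_apply (g : AddMonoid.End U) (x : U) : (g - 1) x = g x - x := rfl

/-- Common fixed points of a set of automorphisms. -/
def fixedBy (S : Set (AutU U)) : AddSubgroup U where
  carrier := {x | ∀ g ∈ S, (g : AddMonoid.End U) x = x}
  zero_mem' := fun g _ => map_zero _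
  add_mem' := fun hx hy g hg => by rw [map_add, hx g hg, hy g hg]
  neg_mem' := fun hx g hg => by rw [map_neg, hx g hg]

theorem mem_fixedBy_apply {S : Set (AutU U)} {g : AutU U} (hg : ∀ s ∈ S, Commute g s) {x : U}
    (hx : x ∈ fixedBy S) : (g : AddMonoid.End U) x ∈ fixedBy S := fun s hs => by
  rw [← end_mul_apply, ← Units.val_mul, ← (hg s hs).eq, Units.val_mul, end_mul_apply, hx s hs]

/-- An element of order prime to `p` centralizing a `p`-group and its fixed points is trivial. -/
theorem eq_one_of_fixed [Finite U] {p : ℕ} [hp : Fact p.Prime] (hpU : ∀ x : U, p • x = 0)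
    {S : Subgroup (AutU U)} (hS : IsPGroup p ↥S) {k : AutU U} {m : ℕ} (hm : m.Coprime p)
    (hkm : k ^ m = 1) (hcomm : ∀ s ∈ S, Commute k s)
    (hfix : ∀ x ∈ fixedBy (S : Set (AutU U)), (k : AddMonoid.End U) x = x) : k = 1 := by
  classical
  set κ : AddMonoid.End U := (k : AddMonoid.End U) with hκ
  set E : AddMonoid.End U := ∑ i ∈ Finset.range m, κ ^ i with hE
  have hkE : E * (κ - 1) = 0 := by
    rw [hE, geom_sum_mul, hκ, ← Units.val_pow_eq_pow_val, hkm, Units.val_one, sub_self]
  suffices hker : ∀ x, E x = 0 → x = 0 by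
    refine Units.ext (DFunLike.ext _ _ fun x => ?_)
    have := hker (κ x - x) (by rw [← end_sub_one_apply, ← end_mul_apply, hkE]; rfl)
    rw [Units.val_one, end_one_apply]
    exact sub_eq_zero.1 this
  have hEs : ∀ s ∈ S, ∀ x, (s : AddMonoid.End U) (E x) = E ((s : AddMonoid.End U) x) := by
    intro s hs x
    have hc : Commute (s : AddMonoid.End U) E := Commute.sum_right _ _ _ fun i _ =>
      (show Commute (s : AddMonoid.End U) κ from (congrArg Units.val (hcomm s hs).eq).symm).pow_right i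
    rw [← end_mul_apply, hc.eq, end_mul_apply]
  let W := {x : U // E x = 0}
  letI : MulAction ↥S W :=
    { smul := fun s x => ⟨((s : AutU U) : AddMonoid.End U) x.1, by
        rw [← hEs _ s.2, x.2, map_zero]⟩
      one_smul := fun x => Subtype.ext rfl
      mul_smul := fun s t x => Subtype.ext rfl }
  intro x hx
  by_contra hne
  haveI : Finite W := Subtype.finite
  have hdvd : p ∣ Nat.card W := by
    let K : AddSubgroup U := (E : U →+ U).ker
    have hK : Nat.card W = Nat.card K := Nat.card_congr (Equiv.subtypeEquivRight fun y => Iff.rfl)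
    have hxK : x ∈ K := hx
    rw [hK, ← addOrderOf_eq_prime (G := K) (x := ⟨x, hxK⟩) (p := p) (Subtype.ext (hpU x))
      (fun h => hne (congrArg Subtype.val h))]
    exact addOrderOf_dvd_natCard _
  obtain ⟨b, hb, hb0⟩ := hS.exists_fixed_point_of_prime_dvd_card_of_fixed_point W hdvd
    (a := ⟨0, map_zero _⟩) (fun s => Subtype.ext (map_zero _))
  have hbfix : b.1 ∈ fixedBy (S : Set (AutU U)) := fun s hs =>
    congrArg Subtype.val (hb ⟨s, hs⟩)
  have hkb := hfix b.1 hbfix
  have hpow : ∀ i, (κ ^ i) b.1 = b.1 := by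
    intro i
    induction i with
    | zero => rfl
    | succ i ih => rw [pow_succ', end_mul_apply, ih]; exact hkb
  have hEb : E b.1 = m • b.1 := by
    refine (congrArg (fun e : AddMonoid.End U => e b.1) hE).trans ?_
    show (∑ i ∈ Finset.range m, κ ^ i) b.1 = m • b.1
    have : (∑ i ∈ Finset.range m, κ ^ i) b.1 = ∑ i ∈ Finset.range m, (κ ^ i) b.1 :=
      map_sum (AddMonoidHom.eval b.1 : AddMonoid.End U →+ U) _ _
    rw [this]
    simp [hpow]
  have h1 : addOrderOf b.1 ∣ m := addOrderOf_dvd_of_nsmul_eq_zero (by rw [← hEb]; exact b.2)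
  have h2 : addOrderOf b.1 ∣ p := addOrderOf_dvd_of_nsmul_eq_zero (hpU b.1)
  exact hb0 (Subtype.ext (AddMonoid.addOrderOf_eq_one_iff.1
    (Nat.eq_one_of_dvd_coprimes hm h1 h2)).symm)

/-- Restriction to the common fixed points, on the centralizer. -/
def restrictFixed (S : Set (AutU U)) : ↥(Subgroup.centralizer S) →* AddMonoid.End ↥(fixedBy S) where
  toFun g :=
    { toFun := fun x => ⟨((g : AutU U) : AddMonoid.End U) x.1,
        mem_fixedBy_apply (fun s hs => (Subgroup.mem_centralizer_iff.1 g.2 s hs).symm) x.2⟩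
      map_zero' := Subtype.ext (map_zero _)
      map_add' := fun x y => Subtype.ext (map_add _ _ _) }
  map_one' := rfl
  map_mul' g h := rfl

theorem restrictFixed_sub_pow (S : Set (AutU U)) (g : ↥(Subgroup.centralizer S)) (i : ℕ)
    (x : ↥(fixedBy S)) :
    (((restrictFixed S g - 1) ^ i) x : U) = ((((g : AutU U) : AddMonoid.End U) - 1) ^ i) x.1 := by
  induction i with
  | zero => rfl
  | succ i ih =>
    rw [pow_succ', pow_succ', end_mul_apply, end_mul_apply, ← ih]
    rfl

/-- The long chain: an element normalising a commuting set of `p'`-automorphisms, commuting with a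
`p`-group `S`, and not commuting with one of those centralizing `S`, has degree at least `p` on the
fixed points of `S`. -/
theorem exists_long_chain [Finite U] {p : ℕ} [hp : Fact p.Prime] (hpU : ∀ x : U, p • x = 0)
    {S : Subgroup (AutU U)} (hS : IsPGroup p ↥S) (H : Set (AutU U))
    (hHS : ∀ k ∈ H, ∀ s ∈ S, Commute k s) (hcomm : ∀ a ∈ H, ∀ b ∈ H, Commute a b)
    {g : AutU U} (hgS : ∀ s ∈ S, Commute g s) (hg : ∃ n, g ^ p ^ n = 1)
    (hconj : ∀ k ∈ H, g * k * g⁻¹ ∈ H) (hord : ∀ a ∈ H, ∃ m : ℕ, m.Coprime p ∧ a ^ m = 1)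
    (hmove : ∃ k ∈ H, ¬ Commute g k) :
    ∃ u ∈ fixedBy (S : Set (AutU U)), (((g : AddMonoid.End U) - 1) ^ (p - 1)) u ≠ 0 ∧
      (((g : AddMonoid.End U) - 1) ^ p) u = 0 ∧ ((g ^ p : AutU U) : AddMonoid.End U) u = u := by
  classical
  set D := fixedBy (S : Set (AutU U)) with hD
  set C := Subgroup.centralizer (S : Set (AutU U)) with hC
  have hmem : ∀ k : AutU U, (∀ s ∈ S, Commute k s) → k ∈ C := fun k hk =>
    Subgroup.mem_centralizer_iff.2 fun s hs => (hk s hs).eq.symm
  let g' : ↥C := ⟨g, hmem g hgS⟩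
  let r : ↥C →* (AddMonoid.End ↥D)ˣ := (restrictFixed (S : Set (AutU U))).toHomUnits
  have hR : ((p : ℕ) : AddMonoid.End ↥D) = 0 := DFunLike.ext _ _ fun x => Subtype.ext (by
    rw [AddMonoid.End.natCast_apply]
    simpa using hpU x.1)
  obtain ⟨k, hk, hgk⟩ := hmove
  obtain ⟨n, hn⟩ := hg
  -- some element has degree at least `p`
  obtain ⟨x₀, hx₀⟩ : ∃ x : ↥D, ((((r g' : AddMonoid.End ↥D)) - 1) ^ (p - 1)) x ≠ 0 := by
    by_contra hcon
    push Not at hcon
    have h0 : ((r g' : AddMonoid.End ↥D) - 1) ^ (p - 1) = 0 := DFunLike.ext _ _ hcon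
    have hc := ConjFunctor.commute_of_unipotent hR (r g')
      ⟨n, by rw [← map_pow, show g' ^ p ^ n = 1 from Subtype.ext hn, map_one]⟩ h0
      (r '' {c : ↥C | (c : AutU U) ∈ H})
      (by
        rintro _ ⟨a, ha, rfl⟩ _ ⟨b, hb, rfl⟩
        exact (show Commute a b from Subtype.ext (hcomm _ ha _ hb).eq).map r)
      (by
        rintro _ ⟨a, ha, rfl⟩
        exact ⟨g' * a * g'⁻¹, hconj _ ha, by rw [map_mul, map_mul, map_inv]⟩)
      (by
        rintro _ ⟨a, ha, rfl⟩
        obtain ⟨m, hm, ham⟩ := hord _ ha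
        exact ⟨m, hm, by rw [← map_pow, show a ^ m = 1 from Subtype.ext ham, map_one]⟩)
      (r ⟨k, hmem k (hHS k hk)⟩) ⟨_, hk, rfl⟩
    set kc : ↥C := ⟨k, hmem k (hHS k hk)⟩
    have hr : r (g' * kc * g'⁻¹ * kc⁻¹) = 1 := by
      rw [map_mul, map_mul, map_mul, map_inv, map_inv, hc.eq, mul_inv_cancel_right, mul_inv_cancel]
    obtain ⟨m₁, hm₁, hk₁⟩ := hord _ (hconj k hk)
    obtain ⟨m₂, hm₂, hk₂⟩ := hord k hk
    set k' : AutU U := g * k * g⁻¹ * k⁻¹ with hk'
    have hk'm : k' ^ (m₁ * m₂) = 1 := by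
      rw [hk', ((hcomm _ (hconj k hk) k hk).inv_right).mul_pow, pow_mul, hk₁, one_pow, mul_comm m₁,
        pow_mul, inv_pow, hk₂, inv_one, one_pow, one_mul]
    have h1 : k' = 1 := eq_one_of_fixed hpU hS (Nat.Coprime.mul hm₁ hm₂) hk'm
      (fun s hs => ((((hgS s hs).mul_left (hHS k hk s hs)).mul_left (hgS s hs).inv_left).mul_left
        (hHS k hk s hs).inv_left))
      (fun x hx => congrArg (fun e : (AddMonoid.End ↥D)ˣ =>
        ((e : AddMonoid.End ↥D) ⟨x, hx⟩ : U)) hr)
    refine hgk ?_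
    rw [hk', mul_inv_eq_one] at h1
    exact mul_inv_eq_iff_eq_mul.1 h1
  have hx₀' : (((g : AddMonoid.End U) - 1) ^ (p - 1)) x₀.1 ≠ 0 := fun h => hx₀ (Subtype.ext (by
    show (((restrictFixed (S : Set (AutU U)) g' - 1) ^ (p - 1)) x₀ : U) = 0
    rw [restrictFixed_sub_pow]; exact h))
  have hRU : ((p : ℕ) : AddMonoid.End U) = 0 := DFunLike.ext _ _ fun x => by
    rw [AddMonoid.End.natCast_apply]; exact hpU x
  haveI : Nontrivial U := ⟨⟨_, 0, hx₀'⟩⟩
  haveI : Nontrivial (AddMonoid.End U) := ⟨⟨1, 0, fun h => hx₀' (by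
    rw [← mul_one ((((g : AddMonoid.End U) - 1)) ^ (p - 1)), h, mul_zero]; rfl)⟩⟩
  haveI : CharP (AddMonoid.End U) p := by
    obtain ⟨c, hc⟩ := CharP.exists (AddMonoid.End U)
    rcases (Nat.dvd_prime hp.out).1 ((CharP.cast_eq_zero_iff (AddMonoid.End U) c p).1 hRU) with h1 | h1
    · subst h1; haveI := hc
      exact (CharP.false_of_nontrivial_of_char_one (R := AddMonoid.End U)).elim
    · exact h1 ▸ hc
  set τ : AddMonoid.End U := (g : AddMonoid.End U) - 1 with hτ
  have hτn : τ ^ p ^ n = 0 := by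
    rw [hτ, sub_pow_char_pow_of_commute (p := p) (h := Commute.one_right _), one_pow,
      ← Units.val_pow_eq_pow_val, hn, Units.val_one, sub_self]
  have hex : ∃ d, (τ ^ d) x₀.1 = 0 := ⟨p ^ n, by rw [hτn]; rfl⟩
  set d := Nat.find hex with hd
  have hdp : p ≤ d := by
    by_contra hlt
    refine hx₀' ?_
    rw [show p - 1 = (p - 1 - d) + d by omega, pow_add, end_mul_apply, Nat.find_spec hex, map_zero]
  have hu : (τ ^ p) ((τ ^ (d - p)) x₀.1) = 0 := by
    rw [← end_mul_apply, ← pow_add, show p + (d - p) = d by omega]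
    exact Nat.find_spec hex
  refine ⟨(τ ^ (d - p)) x₀.1, ?_, ?_, hu, ?_⟩
  · rw [hτ, show (g : AutU U) = (g' : AutU U) from rfl, ← restrictFixed_sub_pow]
    exact Subtype.prop _
  · rw [← end_mul_apply, ← pow_add]
    exact Nat.find_min hex (by have := hp.out.two_le; omega)
  · rw [hτ, sub_pow_char_of_commute (p := p) (h := Commute.one_right _), one_pow,
      end_sub_one_apply] at hu
    rw [Units.val_pow_eq_pow_val]
    exact sub_eq_zero.1 hu

end Cfsg.Agent.LocalEvenD.JSolvable
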