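import Mathlib.Algebra.Group.Hom.Defs
import Mathlib.Algebra.Group.Basic
import Mathlib.Tactic.Abel

/-!
An alternating pairing invariant under a unipotent map of degree `p`, with values on which the map
is quadratic, vanishes in the middle of the filtration.
-/

set_option autoImplicit false

namespace Cfsg.Agent.LocalEvenD.JSolvable

variable {M : Type*} [AddCommGroup M] (T : M →+ M) (hT : ∀ x, T (T x) = 0) (F : ℕ → ℕ → M)
  (hrel : ∀ i j, T (F i j) = F (i + 1) (j + 1) + F (i + 1) j + F i (j + 1))
  {p : ℕ} (hzero : ∀ i j, p ≤ i → F i j = 0)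
include hT hrel hzero

/-- The map kills the pairing at levels at least `p`. -/
theorem form_T_eq_zero : ∀ i j, p ≤ i + j → T (F i j) = 0 := by
  suffices h : ∀ k i j, p ≤ i + k → p ≤ i + j → T (F i j) = 0 from
    fun i j hij => h j i j hij hij
  intro k
  induction k with
  | zero => intro i j hi _; rw [hzero i j (by omega), map_zero]
  | succ k ih =>
    intro i j hik hij
    rcases le_or_gt p i with h | h
    · rw [hzero i j h, map_zero]
    obtain ⟨j, rfl⟩ : ∃ j', j = j' + 1 := ⟨j - 1, by omega⟩
    have h1 := congrArg T (hrel i j)
    rw [hT, map_add, map_add, ih (i + 1) (j + 1) (by omega) (by omega),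
      ih (i + 1) j (by omega) (by omega), zero_add, zero_add] at h1
    exact h1.symm

/-- The pairing vanishes above level `p`. -/
theorem form_eq_zero_of_gt : ∀ i j, p + 1 ≤ i + j → F i j = 0 := by
  suffices h : ∀ k i j, p ≤ i + k → p + 1 ≤ i + j → F i j = 0 from
    fun i j hij => h j i j (by omega) hij
  intro k
  induction k with
  | zero => intro i j hi _; exact hzero i j (by omega)
  | succ k ih =>
    intro i j hik hij
    rcases le_or_gt p i with h | h
    · exact hzero i j h
    obtain ⟨j, rfl⟩ : ∃ j', j = j' + 1 := ⟨j - 1, by omega⟩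
    have h1 := hrel i j
    rw [form_T_eq_zero T hT F hrel hzero i j (by omega), ih (i + 1) (j + 1) (by omega) (by omega),
      ih (i + 1) j (by omega) (by omega), zero_add, zero_add] at h1
    exact h1.symm

/-- The pairing vanishes in the middle. -/
theorem form_middle_eq_zero {h : ℕ} (hp : p = 2 * h + 1) (hanti : ∀ i j, F j i = -F i j)
    (hdiag : ∀ i, F i i = 0) : F h (h + 1) = 0 := by
  have h1 : ∀ k, k ≤ h → T (F (h + k) (h - k)) = 0 := by
    intro k
    induction k with
    | zero => intro _; rw [add_zero, Nat.sub_zero, hdiag, map_zero]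
    | succ k ih =>
      intro hk
      have e : h - k = h - (k + 1) + 1 := by omega
      have h2 := congrArg T (hrel (h + k) (h - (k + 1)))
      rw [← e, hT, map_add, map_add, form_T_eq_zero T hT F hrel hzero (h + k + 1) (h - k) (by omega),
        ih (by omega), zero_add, add_zero] at h2
      exact h2.symm
  have h2 : ∀ k i j, p ≤ i + k → i + j = p → h + 1 ≤ i → F i j = 0 := by
    intro k
    induction k with
    | zero => intro i j hi _ _; exact hzero i j (by omega)
    | succ k ih =>
      intro i j hik hij hi
      rcases le_or_gt p i with hpi | hpi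
      · exact hzero i j hpi
      obtain ⟨j, rfl⟩ : ∃ j', j = j' + 1 := ⟨j - 1, by omega⟩
      have h3 := hrel i j
      have e : T (F i j) = 0 := by
        have := h1 (i - h) (by omega)
        rwa [show h + (i - h) = i by omega, show h - (i - h) = j by omega] at this
      rw [e, form_eq_zero_of_gt T hT F hrel hzero (i + 1) (j + 1) (by omega),
        ih (i + 1) j (by omega) (by omega) (by omega), zero_add, zero_add] at h3
      exact h3.symm
  rw [hanti (h + 1) h, h2 h (h + 1) h (by omega) (by omega) le_rfl, neg_zero]

end Cfsg.Agent.LocalEvenD.JSolvable
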