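import Mathlib.GroupTheory.PGroup
import Mathlib.Algebra.BigOperators.Group.Finset.Basic
import Mathlib.Data.ZMod.Basic
import Mathlib.Data.Fintype.BigOperators
import Mathlib.Algebra.Field.ZMod
import Mathlib.Data.Fintype.Lattice

/-!
A noncyclic abelian `p`-group acting coprimely: the averaging identity over the lines of a plane,
and the criterion for being cyclic.
-/

set_option autoImplicit false

namespace Cfsg.Agent.LocalEvenD.JSolvable

variable {p : ℕ} [hp : Fact p.Prime]

/-- The product over the lines through the origin of a plane. -/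
theorem prod_lines {M : Type*} [CommMonoid M] (f : ZMod p × ZMod p → M) :
    (∏ i, ∏ j, f (j, i * j)) * ∏ j, f (0, j) = f (0, 0) ^ p * ∏ z, f z := by
  classical
  rw [Finset.prod_comm, ← Finset.mul_prod_erase Finset.univ _ (Finset.mem_univ (0 : ZMod p))]
  have h0 : ∏ i : ZMod p, f (0, i * 0) = f (0, 0) ^ p := by simp
  have h1 : ∀ j ∈ Finset.univ.erase (0 : ZMod p), ∏ i, f (j, i * j) = ∏ i, f (j, i) := fun j hj =>
    Equiv.prod_comp (Equiv.mulRight₀ j (Finset.ne_of_mem_erase hj)) fun i => f (j, i)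
  rw [h0, Finset.prod_congr rfl h1, mul_assoc, Fintype.prod_prod_type,
    ← Finset.mul_prod_erase Finset.univ (fun j => ∏ i, f (j, i)) (Finset.mem_univ (0 : ZMod p)),
    mul_comm (∏ x ∈ _, _)]

/-- A finite abelian `p`-group in which any two elements of order `p` generate one another is
cyclic. -/
theorem exists_zpowers_eq_top {Q : Type*} [CommGroup Q] [Finite Q] (hQ : IsPGroup p Q)
    (h : ∀ x y : Q, x ≠ 1 → x ^ p = 1 → y ^ p = 1 → y ∈ Subgroup.zpowers x) :
    ∃ q : Q, ∀ x, x ∈ Subgroup.zpowers q := by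
  obtain ⟨q, hq⟩ := Finite.exists_max (orderOf : Q → ℕ)
  refine ⟨q, ?_⟩
  obtain ⟨e, he⟩ := IsPGroup.iff_orderOf.1 hQ q
  suffices H : ∀ k, ∀ x : Q, x ^ p ^ k = 1 → x ∈ Subgroup.zpowers q from fun x => by
    obtain ⟨k, hk⟩ := IsPGroup.iff_orderOf.1 hQ x
    exact H k x (by rw [← hk, pow_orderOf_eq_one])
  rcases e with _ | e
  · intro k x _
    have : orderOf x ≤ 1 := le_of_le_of_eq (hq x) (by rw [he, pow_zero])
    rw [orderOf_eq_one_iff.1 (le_antisymm this (orderOf_pos x))]
    exact one_mem _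
  intro k
  induction k with
  | zero => intro x hx; rw [pow_zero, pow_one] at hx; rw [hx]; exact one_mem _
  | succ k ih =>
    intro x hx
    obtain ⟨s, hs⟩ := Subgroup.mem_zpowers_iff.1 (ih (x ^ p) (by rw [← pow_mul, ← pow_succ', hx]))
    -- `p` divides `s`
    have hxe : x ^ p ^ (e + 1) = 1 := by
      obtain ⟨l, hl⟩ := IsPGroup.iff_orderOf.1 hQ x
      have : l ≤ e + 1 := (Nat.pow_le_pow_iff_right hp.out.one_lt).1 (by rw [← hl, ← he]; exact hq x)
      exact orderOf_dvd_iff_pow_eq_one.1 (hl ▸ pow_dvd_pow p this)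
    have h1 : q ^ (s * (p ^ e : ℕ)) = 1 := by
      rw [zpow_mul, hs, zpow_natCast, ← pow_mul, ← pow_succ', hxe]
    rw [← orderOf_dvd_iff_zpow_eq_one, he, pow_succ', Nat.cast_mul] at h1
    obtain ⟨t, rfl⟩ := (mul_dvd_mul_iff_right
      (Int.natCast_ne_zero.2 (pow_ne_zero e hp.out.ne_zero))).1 h1
    -- the socle
    have hq1 : q ^ p ^ e ≠ 1 := fun h1 => by
      have h2 := orderOf_dvd_of_pow_eq_one h1
      rw [he] at h2
      have := (Nat.pow_dvd_pow_iff_le_right hp.out.one_lt).1 h2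
      omega
    have hy : (x * (q ^ t)⁻¹) ^ p = 1 := by
      rw [mul_pow, inv_pow, ← zpow_natCast (q ^ t), ← zpow_mul, mul_comm t, hs, mul_inv_cancel]
    have hmem := h (q ^ p ^ e) _ hq1 (by rw [← pow_mul, ← pow_succ, ← he, pow_orderOf_eq_one]) hy
    have : x * (q ^ t)⁻¹ ∈ Subgroup.zpowers q :=
      Subgroup.zpowers_le.2 (Subgroup.pow_mem _ (Subgroup.mem_zpowers q) _) hmem
    have h2 := mul_mem this (zpow_mem (Subgroup.mem_zpowers q) t)
    rwa [inv_mul_cancel_right] at h2

end Cfsg.Agent.LocalEvenD.JSolvable
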