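import Cfsg.Agent.LocalEvenD.JSolvable.Section
import Cfsg.Agent.LocalEvenD.JSolvable.Core
import Cfsg.Agent.LocalEvenD.JSolvable.Fixed
import Cfsg.Agent.LocalEvenD.JSolvable.Socle

/-!
In a reduced group for `p ≥ 5` every abelian subgroup of largest order of a Sylow `p`-subgroup lies
in `O_p`.
-/

set_option autoImplicit false

namespace Cfsg.Agent.LocalEvenD.JSolvable

open Cfsg ConjFunctor PComplement
open scoped commutatorElement

universe u

/-- A `p'`-group normalised by an abelian `p`-group `A`, centralized by `B ≤ A`, with every element of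
it centralized by more of `A` centralized by all of `A`: if it is not centralized, then `A / B` is
cyclic. -/
theorem exists_cyclic_gen {G Γ : Type*} [Group G] [Finite G] [Group Γ] {p : ℕ} [hp : Fact p.Prime]
    (ρ : G →* Γ) {A B : Subgroup G} (hAc : ∀ a ∈ A, ∀ b ∈ A, a * b = b * a) (hAp : IsPGroup p ↥A)
    (hBA : B ≤ A) (H : Subgroup Γ) (hHc : ∀ a ∈ H, ∀ b ∈ H, a * b = b * a)
    (hHA : ∀ a ∈ A, ∀ k ∈ H, ρ a * k * (ρ a)⁻¹ ∈ H)
    (hHB : ∀ b ∈ B, ∀ k ∈ H, Commute (ρ b) k)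
    (hord : ∀ k ∈ H, ∃ m : ℕ, m.Coprime p ∧ k ^ m = 1)
    (hmax : ∀ a ∈ A, a ∉ B → ∀ k ∈ H, Commute (ρ a) k → ∀ a' ∈ A, Commute (ρ a') k)
    (hmove : ∃ k ∈ H, ∃ a ∈ A, ¬ Commute (ρ a) k) :
    ∃ a₀ ∈ A, ∀ a ∈ A, ∃ j : ℤ, a * (a₀ ^ j)⁻¹ ∈ B := by
  classical
  haveI : NeZero p := ⟨hp.out.ne_zero⟩
  letI : CommGroup ↥A := { (inferInstance : Group ↥A) with
    mul_comm := fun a b => Subtype.ext (hAc a a.2 b b.2) }
  letI : CommGroup ↥H := { (inferInstance : Group ↥H) with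
    mul_comm := fun a b => Subtype.ext (hHc a a.2 b b.2) }
  let θ : ↥A →* MulAut ↥H :=
    { toFun := fun a =>
        { toFun := fun k => ⟨ρ a * k * (ρ a)⁻¹, hHA a a.2 k k.2⟩
          invFun := fun k => ⟨(ρ a)⁻¹ * k * ρ a, by
            simpa using hHA _ (A.inv_mem a.2) k k.2⟩
          left_inv := fun k => Subtype.ext (by simp [mul_assoc])
          right_inv := fun k => Subtype.ext (by simp [mul_assoc])
          map_mul' := fun k k' => Subtype.ext (by simp [mul_assoc]) }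
      map_one' := MulEquiv.ext fun k => Subtype.ext (by simp)
      map_mul' := fun a b => MulEquiv.ext fun k => Subtype.ext (by simp [mul_assoc]) }
  have hθ : ∀ (a : ↥A) (k : ↥H), θ a k = k ↔ Commute (ρ (a : G)) (k : Γ) := fun a k => by
    rw [Subtype.ext_iff]
    show ρ a * k * (ρ a)⁻¹ = (k : Γ) ↔ _
    exact mul_inv_eq_iff_eq_mul
  let Q := ↥A ⧸ B.subgroupOf A
  have hker : B.subgroupOf A ≤ θ.ker := fun b hb => MonoidHom.mem_ker.2 (MulEquiv.ext fun k =>
    (hθ b k).2 (hHB b (Subgroup.mem_subgroupOf.1 hb) k k.2))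
  let Θ : Q →* MulAut ↥H := QuotientGroup.lift _ θ hker
  have hQ : IsPGroup p Q := hAp.to_quotient _
  have hmaxQ : ∀ (q : Q) (k : ↥H), q ≠ 1 → Θ q k = k → ∀ q' : Q, Θ q' k = k := by
    intro q k hq hk q'
    induction q using QuotientGroup.induction_on with
    | H a =>
      induction q' using QuotientGroup.induction_on with
      | H a' =>
        refine (hθ a' k).2 (hmax a a.2 (fun haB => hq ?_) k k.2 ((hθ a k).1 hk) a' a'.2)
        exact (QuotientGroup.eq_one_iff a).2 (Subgroup.mem_subgroupOf.2 haB)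
  obtain ⟨q₀, hq₀⟩ : ∃ q : Q, ∀ x, x ∈ Subgroup.zpowers q := by
    refine exists_zpowers_eq_top hQ fun c d hc1 hc hd => ?_
    by_contra hdc
    obtain ⟨k₀, hk₀, a, ha, hna⟩ := hmove
    let x : ↥H := ⟨k₀, hk₀⟩
    let E : ZMod p × ZMod p → Q := fun z => c ^ z.1.val * d ^ z.2.val
    have hpow : ∀ (y : Q), y ^ p = 1 → ∀ i j : ZMod p, y ^ (i + j).val = y ^ i.val * y ^ j.val := by
      intro y hy i j
      rw [← pow_add, ZMod.val_add]
      exact (pow_eq_pow_mod _ hy).symm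
    have hE : ∀ z w, E (z + w) = E z * E w := fun z w => by
      show c ^ (z.1 + w.1).val * d ^ (z.2 + w.2).val =
        c ^ z.1.val * d ^ z.2.val * (c ^ w.1.val * d ^ w.2.val)
      rw [hpow c hc, hpow d hd, mul_mul_mul_comm]
    let f : ZMod p × ZMod p → ↥H := fun z => Θ (E z) x
    have hf : ∀ w z, Θ (E w) (f z) = f (w + z) := fun w z => by
      show Θ (E w) (Θ (E z) x) = Θ (E (w + z)) x
      rw [hE w z, map_mul Θ (E w) (E z)]; rfl
    have hne : ∀ i : ZMod p, E (1, i) ≠ 1 := by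
      intro i he
      have hcd : c * d ^ i.val = 1 := by
        have e : E (1, i) = c ^ (1 : ZMod p).val * d ^ i.val := rfl
        rwa [e, ZMod.val_one, pow_one] at he
      by_cases hi : i = 0
      · rw [hi, ZMod.val_zero, pow_zero, mul_one] at hcd; exact hc1 hcd
      refine hdc ?_
      have hd' : d = (d ^ i.val) ^ (i⁻¹ : ZMod p).val := by
        rw [← pow_mul, pow_eq_pow_mod _ hd, ← ZMod.val_mul, mul_inv_cancel₀ hi, ZMod.val_one,
          pow_one]
      rw [hd', eq_inv_of_mul_eq_one_right hcd]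
      exact pow_mem (inv_mem (Subgroup.mem_zpowers c)) _
    have hall : ∀ (w : ZMod p × ZMod p) (k : ↥H), E w ≠ 1 → Θ (E w) k = k → ∀ q : Q, Θ q k = k :=
      fun w k hw hk q => hmaxQ _ k hw hk q
    -- all the factors are fixed
    have hfix : ∀ q : Q, Θ q (x ^ p) = x ^ p := by
      intro q
      have h1 : ∀ i, Θ q (∏ j, f (j, i * j)) = ∏ j, f (j, i * j) := by
        intro i
        refine hall (1, i) _ (hne i) ?_ q
        rw [map_prod]
        simp only [hf]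
        refine Fintype.prod_equiv (Equiv.addLeft (1 : ZMod p)) _ _ fun j => ?_
        show f ((1, i) + (j, i * j)) = f (1 + j, i * (1 + j))
        rw [Prod.mk_add_mk, mul_add, mul_one]
      have h2 : Θ q (∏ j, f (0, j)) = ∏ j, f (0, j) := by
        refine hall (0, 1) _ (fun he => hdc ?_) ?_ q
        · have e : E (0, 1) = c ^ (0 : ZMod p).val * d ^ (1 : ZMod p).val := rfl
          rw [e, ZMod.val_zero, pow_zero, one_mul, ZMod.val_one, pow_one] at he
          rw [he]; exact one_mem _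
        rw [map_prod]
        simp only [hf]
        refine Fintype.prod_equiv (Equiv.addLeft (1 : ZMod p)) _ _ fun j => ?_
        show f ((0, 1) + (0, j)) = f (0, 1 + j)
        rw [Prod.mk_add_mk, add_zero]
      have h3 : Θ q (∏ z, f z) = ∏ z, f z := by
        refine hall (1, 0) _ (hne 0) ?_ q
        rw [map_prod]
        simp only [hf]
        exact Fintype.prod_equiv (Equiv.addLeft ((1, 0) : ZMod p × ZMod p)) _ _ fun z => rfl
      have hid := prod_lines f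
      have h4 : Θ q ((∏ i, ∏ j, f (j, i * j)) * ∏ j, f (0, j)) =
          (∏ i, ∏ j, f (j, i * j)) * ∏ j, f (0, j) := by
        rw [map_mul, map_prod, h2]
        simp only [h1]
      rw [hid, map_mul, h3] at h4
      have h5 : f (0, 0) = x := by
        show Θ (E (0, 0)) x = x
        have : E (0, 0) = 1 := by
          show c ^ (0 : ZMod p).val * d ^ (0 : ZMod p).val = 1
          rw [ZMod.val_zero, pow_zero, pow_zero, one_mul]
        rw [this, map_one]; rfl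
      rw [h5] at h4
      exact mul_right_cancel h4
    -- so `x` is fixed
    refine hna ((hθ ⟨a, ha⟩ x).1 ?_)
    obtain ⟨m, hm, hkm⟩ := hord k₀ hk₀
    have hxm : x ^ m = 1 := Subtype.ext hkm
    have hcop : (orderOf x).Coprime p := hm.coprime_dvd_left (orderOf_dvd_of_pow_eq_one hxm)
    obtain ⟨t, ht⟩ := exists_pow_eq_self_of_coprime hcop.symm
    have := hfix ↑(⟨a, ha⟩ : ↥A)
    change θ ⟨a, ha⟩ (x ^ p) = x ^ p at this
    rw [← ht, map_pow, this]
  obtain ⟨a₀, rfl⟩ := QuotientGroup.mk_surjective q₀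
  refine ⟨a₀, a₀.2, fun a ha => ?_⟩
  obtain ⟨j, hj⟩ := Subgroup.mem_zpowers_iff.1 (hq₀ ↑(⟨a, ha⟩ : ↥A))
  refine ⟨j, ?_⟩
  rw [← QuotientGroup.mk_zpow, QuotientGroup.eq, Subgroup.mem_subgroupOf] at hj
  have : a * ((a₀ : G) ^ j)⁻¹ = ((a₀ : G) ^ j)⁻¹ * a := hAc a ha _ (inv_mem (zpow_mem a₀.2 j))
  rw [this]
  simpa using hj

variable {G : Type u} [Group G] [Finite G] {p : ℕ} [hpf : Fact p.Prime]

/-- In a reduced group the abelian subgroups of largest order lie in `O_p`. -/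
theorem maxAbelian_le {P : Sylow p G} {V K : Subgroup G} (hred : IsReduced p (P : Subgroup G) V K)
    (hp : 5 ≤ p) {A : Subgroup G} (hAP : A ≤ (P : Subgroup G)) (hAc : IsMulCommutative A)
    (hmax : ∀ B : Subgroup G, B ≤ (P : Subgroup G) → IsMulCommutative B → Nat.card B ≤ Nat.card A) :
    A ≤ V := by
  classical
  by_contra hAV
  haveI hVn : V.Normal := hred.eq_pCore ▸ inferInstance
  haveI := hred.normal
  obtain ⟨N, N₀, hNn, hN₀n, hNV, hS, hpow, hVker, hker⟩ := exists_section hred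
  have hAc' : ∀ a ∈ A, ∀ b ∈ A, a * b = b * a := fun a ha b hb =>
    JFix.comm_of_isMulCommutative hAc ha hb
  -- the module
  set f := QuotientGroup.mk' N₀ with hf
  set U := N.map f with hU
  haveI : U.Normal := Subgroup.Normal.map hNn _ (QuotientGroup.mk'_surjective N₀)
  have hfN₀ : ∀ x : G, f x = 1 ↔ x ∈ N₀ := fun x => QuotientGroup.eq_one_iff x
  haveI : IsMulCommutative ↥U := Subgroup.le_centralizer_iff_isMulCommutative.1 (by
    rintro _ ⟨x, hx, rfl⟩
    refine Subgroup.mem_centralizer_iff.2 ?_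
    rintro _ ⟨y, hy, rfl⟩
    rw [← commutatorElement_eq_one_iff_mul_comm, ← map_commutatorElement, hfN₀]
    exact hS.comm y hy x hx)
  letI : CommGroup ↥U := { (inferInstance : Group ↥U) with
    mul_comm := fun a b => Subtype.ext (JFix.comm_of_isMulCommutative inferInstance a.2 b.2) }
  haveI : Finite (Additive ↥U) := inferInstanceAs (Finite ↥U)
  have hpU : ∀ x : Additive ↥U, p • x = 0 := by
    intro x
    obtain ⟨n, hn, hxn⟩ := (Additive.toMul x).2
    refine Additive.toMul.injective (Subtype.ext ?_)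
    rw [toMul_nsmul, SubgroupClass.coe_pow, ← hxn, ← map_pow]
    exact (hfN₀ _).2 (hpow n hn)
  let ρ : G →* AutU (Additive ↥U) := ((ConjFunctor.conjEnd U).comp f).toHomUnits
  let el : (n : G) → n ∈ N → Additive ↥U := fun n hn =>
    Additive.ofMul ⟨f n, Subgroup.mem_map_of_mem f hn⟩
  have hρel : ∀ (x n : G) (hn : n ∈ N), (ρ x : AddMonoid.End (Additive ↥U)) (el n hn) =
      el (x * n * x⁻¹) (hNn.conj_mem n hn x) := fun x n hn => Additive.toMul.injective (Subtype.ext (by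
    show f x * f n * (f x)⁻¹ = f (x * n * x⁻¹)
    rw [map_mul, map_mul, map_inv]))
  have hel : ∀ (n : G) (hn : n ∈ N), el n hn = 0 ↔ n ∈ N₀ := fun n hn => by
    rw [← hfN₀]
    exact ⟨fun h => congrArg (fun y : Additive ↥U => ((Additive.toMul y : ↥U) : G ⧸ N₀)) h,
      fun h => Additive.toMul.injective (Subtype.ext h)⟩
  have hsub : ∀ (x n : G) (hn : n ∈ N), ((ρ x : AddMonoid.End (Additive ↥U)) - 1) (el n hn) =
      el ⁅x, n⁆ (hS.tau_mem (Subgroup.mem_top x) hn) := fun x n hn => by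
    rw [end_sub_one_apply, hρel x n hn, sub_eq_iff_eq_add]
    refine Additive.toMul.injective (Subtype.ext ?_)
    show f (x * n * x⁻¹) = f ⁅x, n⁆ * f n
    rw [← map_mul, commutatorElement_def, inv_mul_cancel_right]
  have hfixel : ∀ (x n : G) (hn : n ∈ N),
      (ρ x : AddMonoid.End (Additive ↥U)) (el n hn) = el n hn ↔ ⁅x, n⁆ ∈ N₀ := fun x n hn => by
    rw [← sub_eq_zero, ← end_sub_one_apply, hsub x n hn,
      hel _ (hS.tau_mem (Subgroup.mem_top x) hn)]
  have hch : ∀ (x n : G) (hn : n ∈ N) (i : ℕ),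
      (((ρ x : AddMonoid.End (Additive ↥U)) - 1) ^ i) (el n hn) =
        el (ch x i n) (hS.ch_mem (Subgroup.mem_top x) hn i) := by
    intro x n hn i
    induction i with
    | zero => rfl
    | succ i ih =>
      rw [pow_succ', end_mul_apply, ih, hsub x (ch x i n) (hS.ch_mem (Subgroup.mem_top x) hn i)]
      refine Additive.toMul.injective (Subtype.ext (congrArg f (ch_succ x i n).symm))
  have hρV : ∀ x : G, ρ x = 1 ↔ x ∈ V := by
    refine fun x => ⟨fun h => hker x fun n hn => ?_, fun h => Units.ext (DFunLike.ext _ _ fun y => ?_)⟩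
    · rw [← hfixel x n hn, h]; rfl
    · obtain ⟨n, hn, hyn⟩ := (Additive.toMul y).2
      have e : y = el n hn := Additive.toMul.injective (Subtype.ext hyn.symm)
      rw [e, (hfixel x n hn).2 (hVker x h n hn)]
      rfl
  -- the image of `K`
  set Kb := K.map ρ with hKb
  have hKbc : ∀ a ∈ Kb, ∀ b ∈ Kb, a * b = b * a := by
    rintro _ ⟨x, hx, rfl⟩ _ ⟨y, hy, rfl⟩
    rw [← commutatorElement_eq_one_iff_mul_comm, ← map_commutatorElement]
    exact (hρV _).2 (hred.comm_mem x hx y hy)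
  have hKbord : ∀ k ∈ Kb, ∃ m : ℕ, m.Coprime p ∧ k ^ m = 1 := by
    rintro _ ⟨x, hx, rfl⟩
    refine ⟨V.relIndex K, hred.coprime, ?_⟩
    rw [← map_pow]
    exact (hρV _).2 (Subgroup.pow_index_mem (V.subgroupOf K) (⟨x, hx⟩ : ↥K))
  have hKbconj : ∀ x : G, ∀ k ∈ Kb, ρ x * k * (ρ x)⁻¹ ∈ Kb := by
    rintro x _ ⟨y, hy, rfl⟩
    exact ⟨x * y * x⁻¹, hred.normal.conj_mem y hy x, by rw [map_mul, map_mul, map_inv]⟩
  -- an element of `P` centralizing `K` modulo `V` lies in `V`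
  have hmoveV : ∀ x ∈ (P : Subgroup G), (∀ k ∈ Kb, Commute (ρ x) k) → x ∈ V := by
    intro x hx hxk
    let C : Subgroup G := (Subgroup.centralizer (Kb : Set (AutU (Additive ↥U)))).comap ρ
    have hCn : ∀ (g y : G), y ∈ C → g * y * g⁻¹ ∈ C := fun g y hy => by
      refine Subgroup.mem_centralizer_iff.2 fun k hk => ?_
      have h1 := Subgroup.mem_centralizer_iff.1 hy _ (hKbconj g⁻¹ k hk)
      rw [map_mul, map_mul, map_inv]
      rw [map_inv, inv_inv] at h1
      calc k * (ρ g * ρ y * (ρ g)⁻¹) = ρ g * (((ρ g)⁻¹ * k * ρ g) * ρ y) * (ρ g)⁻¹ := by group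
        _ = ρ g * (ρ y * ((ρ g)⁻¹ * k * ρ g)) * (ρ g)⁻¹ := by rw [h1]
        _ = ρ g * ρ y * (ρ g)⁻¹ * k := by group
    let D : Subgroup G := (P : Subgroup G) ⊓ C
    have hDn : D.Normal := by
      rw [← Subgroup.normalizer_eq_top_iff, eq_top_iff, ← hred.sup_eq_top]
      refine sup_le (fun g hg => mem_normalizer_of_conj_le fun y hy =>
        ⟨(P : Subgroup G).mul_mem ((P : Subgroup G).mul_mem hg hy.1) ((P : Subgroup G).inv_mem hg),
          hCn g y hy.2⟩) (fun g hg =>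
        mem_normalizer_of_conj_le fun y hy => ⟨?_, hCn g y hy.2⟩)
      have h1 : ⁅g, y⁆ ∈ V := (hρV _).1 (by
        rw [map_commutatorElement, commutatorElement_eq_one_iff_mul_comm]
        exact Subgroup.mem_centralizer_iff.1 hy.2 _ (Subgroup.mem_map_of_mem ρ hg))
      rw [show g * y * g⁻¹ = ⁅g, y⁆ * y by simp only [commutatorElement_def]; group]
      exact mul_mem (hred.le_sylow h1) hy.1
    refine le_V_of_normal hred hDn (P.isPGroup'.to_le inf_le_left) ⟨hx, ?_⟩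
    exact Subgroup.mem_centralizer_iff.2 fun k hk => (hxk k hk).eq.symm
  have hAp : IsPGroup p ↥A := P.isPGroup'.to_le hAP
  -- the maximal subgroup
  obtain ⟨a₁, ha₁, ha₁V⟩ := SetLike.not_le_iff_exists.1 hAV
  let 𝔅 : Set (Subgroup G) := {B | B ≤ A ∧ ∃ k ∈ Kb, (∀ b ∈ B, Commute (ρ b) k) ∧
    ∃ a ∈ A, ¬ Commute (ρ a) k}
  have h𝔅 : (A ⊓ V) ∈ 𝔅 := by
    obtain ⟨k, hk, hnk⟩ : ∃ k ∈ Kb, ¬ Commute (ρ a₁) k := by
      by_contra hh
      push Not at hh
      exact ha₁V (hmoveV a₁ (hAP ha₁) hh)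
    exact ⟨inf_le_left, k, hk, fun b hb => by rw [(hρV b).2 hb.2]; exact Commute.one_left k, a₁, ha₁, hnk⟩
  obtain ⟨B, ⟨hBA, k₀, hk₀, hk₀B, a₂, ha₂, hk₀a⟩, hBmax⟩ :=
    (Set.toFinite 𝔅).exists_maximal ⟨_, h𝔅⟩
  have hmax' : ∀ a ∈ A, a ∉ B → ∀ k ∈ Kb, (∀ b ∈ B, Commute (ρ b) k) → Commute (ρ a) k →
      ∀ a' ∈ A, Commute (ρ a') k := by
    intro a ha haB k hk hkB hka a' ha'
    by_contra hne
    refine haB (hBmax (y := B ⊔ Subgroup.zpowers a) ⟨sup_le hBA (Subgroup.zpowers_le.2 ha), k, hk,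
      fun b hb => ?_, a', ha', hne⟩ le_sup_left (Subgroup.mem_sup_right (Subgroup.mem_zpowers a)))
    have : B ⊔ Subgroup.zpowers a ≤ (Subgroup.centralizer {k}).comap ρ := sup_le
      (fun b hb => Subgroup.mem_centralizer_singleton_iff.2 (hkB b hb).eq)
      (Subgroup.zpowers_le.2 (Subgroup.mem_centralizer_singleton_iff.2 hka.eq))
    exact Subgroup.mem_centralizer_singleton_iff.1 (this hb)
  let H : Subgroup (AutU (Additive ↥U)) := Kb ⊓ Subgroup.centralizer (ρ '' (B : Set G))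
  have hHB : ∀ b ∈ B, ∀ k ∈ H, Commute (ρ b) k := fun b hb k hk =>
    Subgroup.mem_centralizer_iff.1 hk.2 _ ⟨b, hb, rfl⟩
  have hk₀H : k₀ ∈ H := ⟨hk₀, Subgroup.mem_centralizer_iff.2 (by
    rintro _ ⟨b, hb, rfl⟩; exact (hk₀B b hb).eq)⟩
  have hHA : ∀ a ∈ A, ∀ k ∈ H, ρ a * k * (ρ a)⁻¹ ∈ H := by
    intro a ha k hk
    refine ⟨hKbconj a k hk.1, Subgroup.mem_centralizer_iff.2 ?_⟩
    rintro _ ⟨b, hb, rfl⟩
    have hab : ρ b * ρ a = ρ a * ρ b := by rw [← map_mul, ← map_mul, hAc' b (hBA hb) a ha]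
    calc ρ b * (ρ a * k * (ρ a)⁻¹) = ρ a * (ρ b * k) * (ρ a)⁻¹ := by
          rw [← mul_assoc, ← mul_assoc, hab, mul_assoc (ρ a)]
      _ = ρ a * (k * ρ b) * (ρ a)⁻¹ := by rw [(hHB b hb k hk).eq]
      _ = ρ a * k * (ρ b * (ρ a)⁻¹) := by simp only [mul_assoc]
      _ = ρ a * k * ((ρ a)⁻¹ * ρ b) := by
          rw [← map_inv, ← map_mul ρ, ← map_mul ρ, hAc' b (hBA hb) _ (inv_mem ha)]
      _ = _ := by simp only [mul_assoc]
  obtain ⟨a₀, ha₀, hgen⟩ := exists_cyclic_gen ρ hAc' hAp hBA H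
    (fun a ha b hb => hKbc a ha.1 b hb.1) hHA hHB (fun k hk => hKbord k hk.1)
    (fun a ha haB k hk hka => hmax' a ha haB k hk.1 (fun b hb => hHB b hb k hk) hka)
    ⟨k₀, hk₀H, a₂, ha₂, hk₀a⟩
  set A₁ := B ⊔ Subgroup.zpowers (a₀ ^ p) with hA₁
  have hA₁A : A₁ ≤ A := sup_le hBA (Subgroup.zpowers_le.2 (pow_mem ha₀ p))
  have hcommB : ∀ y ∈ A, ∀ x ∈ B, y * x = x * y := fun y hy x hx => hAc' y hy x (hBA hx)
  have hgenA : ∀ a ∈ A, ∃ b ∈ B, ∃ j : ℤ, a = b * a₀ ^ j := fun a ha => by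
    obtain ⟨j, hj⟩ := hgen a ha
    exact ⟨_, hj, j, (inv_mul_cancel_right a _).symm⟩
  -- index `p`
  have hidx : Nat.card A ≤ p * Nat.card A₁ := by
    have : Function.Surjective fun z : Fin p × ↥A₁ =>
        (⟨a₀ ^ (z.1 : ℕ) * z.2, mul_mem (pow_mem ha₀ _) (hA₁A z.2.2)⟩ : ↥A) := by
      rintro ⟨a, ha⟩
      obtain ⟨b, hb, j, rfl⟩ := hgenA a ha
      have hr : (j % (p : ℤ)).toNat < p := by
        have := Int.emod_lt_of_pos j (by exact_mod_cast hpf.out.pos : (0 : ℤ) < p)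
        have := Int.emod_nonneg j (by exact_mod_cast hpf.out.ne_zero : (p : ℤ) ≠ 0)
        omega
      refine ⟨(⟨_, hr⟩, ⟨b * (a₀ ^ p) ^ (j / (p : ℤ)), mul_mem (Subgroup.mem_sup_left hb)
        (Subgroup.mem_sup_right (zpow_mem (Subgroup.mem_zpowers _) _))⟩), Subtype.ext ?_⟩
      show a₀ ^ (j % (p : ℤ)).toNat * (b * (a₀ ^ p) ^ (j / (p : ℤ))) = b * a₀ ^ j
      rw [← mul_assoc, hcommB _ (pow_mem ha₀ _) b hb, mul_assoc, ← zpow_natCast a₀ p,
        ← zpow_natCast a₀ (j % (p : ℤ)).toNat, ← zpow_mul, ← zpow_add,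
        Int.toNat_of_nonneg (Int.emod_nonneg j (by exact_mod_cast hpf.out.ne_zero)),
        Int.emod_add_mul_ediv]
    have h := Nat.card_le_card_of_surjective _ this
    rwa [Nat.card_prod, Nat.card_fin] at h
  -- the generators of `A` modulo `B`
  have hout : ∀ a ∈ A, a ∉ A₁ → (∀ x ∈ A₁, ∃ b ∈ B, ∃ j : ℤ, x = b * (a ^ p) ^ j) := by
    intro a ha haA₁
    obtain ⟨b, hb, j, rfl⟩ := hgenA a ha
    have hndvd : ¬ (p : ℤ) ∣ j := by
      rintro ⟨t, rfl⟩
      refine haA₁ (mul_mem (Subgroup.mem_sup_left hb) (Subgroup.mem_sup_right ?_))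
      rw [zpow_mul, zpow_natCast]
      exact zpow_mem (Subgroup.mem_zpowers _) t
    obtain ⟨e, he⟩ := IsPGroup.iff_orderOf.1 hAp ⟨a₀, ha₀⟩
    rw [Subgroup.orderOf_mk] at he
    obtain ⟨u, v, huv⟩ : IsCoprime j ((p : ℤ) ^ e) :=
      ((Int.prime_iff_natAbs_prime.2 (by simpa using hpf.out) : Prime (p : ℤ)).coprime_iff_not_dvd.2
        hndvd).symm.pow_right
    have ha₀eq : a₀ = (b⁻¹) ^ u * (b * a₀ ^ j) ^ u := by
      rw [(show Commute b (a₀ ^ j) from (hcommB _ (zpow_mem ha₀ j) b hb).symm).mul_zpow, inv_zpow,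
        inv_mul_cancel_left, ← zpow_mul]
      conv_lhs => rw [← zpow_one a₀, ← huv]
      rw [zpow_add, mul_comm j u, mul_comm v, zpow_mul a₀ ((p : ℤ) ^ e) v, ← Nat.cast_pow,
        zpow_natCast, ← he, pow_orderOf_eq_one, one_zpow, mul_one]
    intro x hx
    obtain ⟨b', hb', t, rfl⟩ := mem_sup_zpowers (hcommB _ (pow_mem ha₀ p)) hx
    refine ⟨b' * ((b⁻¹) ^ (u * (p * t))), mul_mem hb' (zpow_mem (inv_mem hb) _), u * t, ?_⟩
    rw [mul_assoc]
    congr 1
    have hc : Commute (b⁻¹ ^ u) ((b * a₀ ^ j) ^ u) :=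
      ((Commute.refl b).inv_left.mul_right
        (show Commute b (a₀ ^ j) from (hcommB _ (zpow_mem ha₀ j) b hb).symm).inv_left).zpow_zpow u u
    rw [← zpow_natCast a₀ p, ← zpow_mul]
    conv_lhs => rw [ha₀eq, hc.mul_zpow, ← zpow_mul, ← zpow_mul]
    rw [← zpow_natCast (b * a₀ ^ j) p, ← zpow_mul, ← mul_assoc (p : ℤ) u t, mul_comm (p : ℤ) u,
      mul_assoc]
  -- the section centralized by `A₁`
  let N' : Subgroup G :=
    { carrier := {n | n ∈ N ∧ ∀ b ∈ A₁, ⁅b, n⁆ ∈ N₀}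
      one_mem' := ⟨one_mem _, fun b _ => by rw [commutatorElement_one_right]; exact one_mem _⟩
      mul_mem' := fun {x y} hx hy => ⟨mul_mem hx.1 hy.1, fun b hb => by
        rw [show ⁅b, x * y⁆ = ⁅b, x⁆ * (x * ⁅b, y⁆ * x⁻¹) by simp only [commutatorElement_def]; group]
        exact mul_mem (hx.2 b hb) (hN₀n.conj_mem _ (hy.2 b hb) x)⟩
      inv_mem' := fun {x} hx => ⟨inv_mem hx.1, fun b hb => by
        rw [show ⁅b, x⁻¹⁆ = x⁻¹ * ⁅b, x⁆⁻¹ * x by simp only [commutatorElement_def]; group]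
        simpa using hN₀n.conj_mem _ (inv_mem (hx.2 b hb)) x⁻¹⟩ }
  have hS' : IsSect A N' N₀ :=
    { le := fun z hz => ⟨hS.le hz, fun b _ => hS.tau_mem₀ (Subgroup.mem_top b) hz⟩
      conj := fun a ha n hn => ⟨hNn.conj_mem n hn.1 a, fun b hb => by
        have e : ⁅b, a * n * a⁻¹⁆ = a * ⁅b, n⁆ * a⁻¹ := by
          have hb' : a * b * a⁻¹ = b := by
            rw [hAc' a ha b (hA₁A hb), mul_inv_cancel_right]
          conv_lhs => rw [← hb']
          simp only [commutatorElement_def]; group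
        rw [e]; exact hN₀n.conj_mem _ (hn.2 b hb) a⟩
      conj₀ := fun a _ n hn => hN₀n.conj_mem n hn a
      central := fun n hn => hS.central n hn.1
      comm := fun x hx y hy => hS.comm x hx.1 y hy.1 }
  -- the chains
  have hchain : ∀ a ∈ A, a ∉ A₁ → ∃ n ∈ N', ch a (p - 1) n ∉ N₀ ∧ ch a p n ∈ N₀ := by
    intro a ha haA₁
    have haB : a ∉ B := fun h => haA₁ (Subgroup.mem_sup_left h)
    have hmovea : ∃ k ∈ H, ¬ Commute (ρ a) k := ⟨k₀, hk₀H, fun h =>
      hk₀a (hmax' a ha haB k₀ hk₀ hk₀B h a₂ ha₂)⟩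
    obtain ⟨e, he⟩ := hAp ⟨a, ha⟩
    obtain ⟨y, hy, hy1, hy2, hy3⟩ := exists_long_chain hpU (S := B.map ρ)
      ((hAp.to_le hBA).map ρ) (H : Set (AutU (Additive ↥U)))
      (fun k hk s hs => by
        obtain ⟨b, hb, rfl⟩ := hs
        exact (hHB b hb k hk).symm)
      (fun a ha b hb => hKbc a ha.1 b hb.1) (g := ρ a)
      (fun s hs => by
        obtain ⟨b, hb, rfl⟩ := hs
        exact (show Commute a b from hAc' a ha b (hBA hb)).map ρ)
      ⟨e, by rw [← map_pow, show a ^ p ^ e = 1 from congrArg Subtype.val he, map_one]⟩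
      (fun k hk => hHA a ha k hk) (fun k hk => hKbord k hk.1) hmovea
    obtain ⟨n, hn, hyn⟩ := (Additive.toMul y).2
    have e1 : y = el n hn := Additive.toMul.injective (Subtype.ext hyn.symm)
    refine ⟨n, ⟨hn, fun x hx => ?_⟩, fun h => hy1 ?_, ?_⟩
    · obtain ⟨b, hb, j, rfl⟩ := hout a ha haA₁ x hx
      rw [← hfixel _ n hn, ← e1, map_mul, Units.val_mul, end_mul_apply, map_zpow]
      have hz : ((ρ (a ^ p)) ^ j : AutU (Additive ↥U)) ∈
          ({ carrier := {g : AutU (Additive ↥U) | (g : AddMonoid.End (Additive ↥U)) y = y}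
             one_mem' := rfl
             mul_mem' := fun {g h} hg hh => by
               show ((g * h : AutU (Additive ↥U)) : AddMonoid.End (Additive ↥U)) y = y
               rw [Units.val_mul, end_mul_apply, hh, hg]
             inv_mem' := fun {g} hg => by
               show ((g⁻¹ : AutU (Additive ↥U)) : AddMonoid.End (Additive ↥U)) y = y
               conv_lhs => rw [← hg]
               rw [← end_mul_apply, Units.inv_mul, end_one_apply] } :
            Subgroup (AutU (Additive ↥U))) := zpow_mem (by rw [map_pow]; exact hy3) j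
      rw [show (((ρ (a ^ p)) ^ j : AutU (Additive ↥U)) : AddMonoid.End (Additive ↥U)) y = y from hz]
      exact hy _ (Subgroup.mem_map_of_mem ρ hb)
    · rw [e1, hch a n hn]; exact (hel _ (hS.ch_mem (Subgroup.mem_top a) hn _)).2 h
    · rw [e1, hch a n hn] at hy2; exact (hel _ (hS.ch_mem (Subgroup.mem_top a) hn _)).1 hy2
  refine no_long_chain hp P.isPGroup' hAP hAc hmax hA₁A (fun hle => ?_) hidx
    (N := N') (fun n (hn : n ∈ N') => hred.le_sylow (hNV hn.1)) hS'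
    (fun b hb n (hn : n ∈ N') => hn.2 b hb) hchain
  -- `A₁` is proper
  obtain ⟨b, hb, j, hj⟩ := mem_sup_zpowers (hcommB _ (pow_mem ha₀ p)) (hle ha₀)
  obtain ⟨e, he⟩ := IsPGroup.iff_orderOf.1 hAp ⟨a₀, ha₀⟩
  rw [Subgroup.orderOf_mk] at he
  have ha₀B : a₀ ∈ B := by
    obtain ⟨u, v, huv⟩ : IsCoprime (1 - (p : ℤ) * j) ((p : ℤ) ^ e) :=
      (IsCoprime.pow_right (⟨1, j, by ring⟩ : IsCoprime (1 - (p : ℤ) * j) (p : ℤ)))
    have h1 : a₀ ^ (1 - (p : ℤ) * j) ∈ B := by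
      have e : a₀ * ((a₀ ^ p) ^ j)⁻¹ = b := by nth_rw 1 [hj]; rw [mul_inv_cancel_right]
      rw [zpow_sub, zpow_one, zpow_mul, zpow_natCast, e]; exact hb
    rw [← zpow_one a₀, ← huv, zpow_add, mul_comm u, zpow_mul, mul_comm v, zpow_mul, ← Nat.cast_pow,
      zpow_natCast, ← he, pow_orderOf_eq_one, one_zpow, mul_one]
    exact zpow_mem h1 u
  refine hk₀a ?_
  obtain ⟨b', hb', j', hj'⟩ := hgenA a₂ ha₂
  rw [hj']
  exact hk₀B _ (mul_mem hb' (zpow_mem ha₀B j'))

end Cfsg.Agent.LocalEvenD.JSolvable
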