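import Cfsg.Agent.ConjFunctor.PComplementFunctor
import Cfsg.Agent.LocalEvenD.JSolvable.Sec

/-!
A reduced group has a section `N / N₀` of exponent `p` inside `O_p`, with `N₀` central in `N`,
on which the group acts with kernel `O_p`.
-/

set_option autoImplicit false

namespace Cfsg.Agent.LocalEvenD.JSolvable

open Cfsg ConjFunctor PComplement
open scoped commutatorElement

universe u

variable {G : Type u} [Group G] [Finite G] {p : ℕ} [hp : Fact p.Prime] {P : Sylow p G}
  {V K : Subgroup G} (hred : IsReduced p (P : Subgroup G) V K)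
include hred

theorem pResidual_le_of_reduced : pResidual p G ≤ K := by
  haveI := hred.normal
  exact Transfer.pResidual_le_of_isPGroup_quotient (ConjFunctor.IsReduced.isPGroup_quotient_K hred)

theorem le_V_of_normal {D : Subgroup G} (hn : D.Normal) (hD : IsPGroup p ↥D) : D ≤ V :=
  hred.eq_pCore ▸ Thompson.le_pCore hn hD

theorem coprime_mem_V {x : G} (hx : x ∈ V) (hxc : (orderOf x).Coprime p) : x = 1 := by
  obtain ⟨k, hk⟩ := (P.isPGroup'.to_le hred.le_sylow) ⟨x, hx⟩
  refine orderOf_eq_one_iff.1 (Nat.eq_one_of_dvd_coprimes (hxc.pow_right k) dvd_rfl ?_)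
  exact orderOf_dvd_of_pow_eq_one (congrArg Subtype.val hk)

theorem not_pResidual_le_V : ¬ pResidual p G ≤ V := fun h => by
  refine hred.not_complement (Transfer.hasNormalPComplement_iff_not_dvd.2 ?_)
  have hbot : pResidual p G = ⊥ := le_bot_iff.1 (Transfer.pResidual_le_iff.2 fun g hg =>
    Subgroup.mem_bot.2 (coprime_mem_V hred (h (Transfer.mem_pResidual_of_coprime hg)) hg))
  rw [hbot, Subgroup.card_bot]
  exact hp.out.not_dvd_one

/-- A normal subgroup outside `O_p` contains `O^p`. -/
theorem pResidual_le_of_normal {L : Subgroup G} [L.Normal] (hL : ¬ L ≤ V) : pResidual p G ≤ L := by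
  haveI := hred.normal
  set M := L ⊓ K with hM
  haveI : M.Normal := Subgroup.normal_inf_normal _ _
  by_cases hMV : M ≤ V
  · refine absurd (le_V_of_normal hred inferInstance (isPGroup_of_forall_coprime fun x hx hxc => ?_)) hL
    exact coprime_mem_V hred (hMV ⟨hx, pResidual_le_of_reduced hred
      (Transfer.mem_pResidual_of_coprime hxc)⟩) hxc
  · have htop : (P : Subgroup G) ⊔ M = ⊤ := by
      by_contra hne
      have := hred.maximal _ le_sup_left hne
      exact hMV (le_V_of_normal hred inferInstance (P.isPGroup'.to_le (this ▸ le_sup_right)))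
    refine le_trans (Transfer.pResidual_le_of_isPGroup_quotient ?_) (inf_le_left : M ≤ L)
    refine IsPGroup.of_surjective P.2 ((QuotientGroup.mk' M).comp (P : Subgroup G).subtype) ?_
    intro q
    obtain ⟨g, rfl⟩ := QuotientGroup.mk'_surjective M q
    obtain ⟨a, ha, b, hb, rfl⟩ := Subgroup.mem_sup_of_normal_right.1 (htop ▸ Subgroup.mem_top g)
    refine ⟨⟨a, ha⟩, ?_⟩
    show QuotientGroup.mk' M a = _
    rw [map_mul, show QuotientGroup.mk' M b = 1 from (QuotientGroup.eq_one_iff b).2 hb, mul_one]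

/-- The section. -/
theorem exists_section : ∃ N N₀ : Subgroup G, N.Normal ∧ N₀.Normal ∧ N ≤ V ∧ IsSect ⊤ N N₀ ∧
    (∀ n ∈ N, n ^ p ∈ N₀) ∧ (∀ v ∈ V, ∀ n ∈ N, ⁅v, n⁆ ∈ N₀) ∧
    ∀ x : G, (∀ n ∈ N, ⁅x, n⁆ ∈ N₀) → x ∈ V := by
  haveI hVn : V.Normal := hred.eq_pCore ▸ inferInstance
  set R := pResidual p G with hR
  set C := Subgroup.centralizer (R : Set G) with hC
  haveI : C.Normal := Subgroup.normal_centralizer
  have hVC : ¬ V ≤ C := fun h => not_pResidual_le_V hred
    ((Subgroup.le_centralizer_iff.1 h).trans hred.centralizer_le)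
  obtain ⟨N, ⟨hNn, hNV, hNC⟩, hmin⟩ :=
    (Set.toFinite {M : Subgroup G | M.Normal ∧ M ≤ V ∧ ¬ M ≤ C}).exists_minimal
      ⟨V, hVn, le_rfl, hVC⟩
  haveI := hNn
  set N₀ := N ⊓ C with hN₀
  haveI hN₀n : N₀.Normal := Subgroup.normal_inf_normal _ _
  have hsmall : ∀ M : Subgroup G, M.Normal → M ≤ N → M ≠ N → M ≤ N₀ := fun M hM hle hne =>
    le_inf hle (by
      by_contra hMC
      exact hne (le_antisymm hle (hmin ⟨hM, hle.trans hNV, hMC⟩ hle)))
  have hVp : IsPGroup p ↥V := P.isPGroup'.to_le hred.le_sylow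
  -- `[N, R] = N`
  have hNR : ⁅N, R⁆ = N := by
    by_contra hne
    have h0 := hsmall _ (Subgroup.commutator_normal _ _) (Subgroup.commutator_le_left N R) hne
    refine hNC fun n hn => ?_
    have hle : R ≤ Subgroup.centralizer {n} := Transfer.pResidual_le_iff.2 fun r hr => by
      rw [Subgroup.mem_centralizer_singleton_iff]
      have hrR : r ∈ R := Transfer.mem_pResidual_of_coprime hr
      set w := ⁅n, r⁆ with hw
      have hwN : w ∈ N₀ := h0 (Subgroup.commutator_mem_commutator hn hrR)
      have hwr : Commute w r := (Subgroup.mem_centralizer_iff.1 hwN.2 r hrR).symm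
      have hconj : n * r * n⁻¹ = w * r := by
        simp only [hw, commutatorElement_def, inv_mul_cancel_right]
      have h1 : (n * r * n⁻¹) ^ orderOf r = 1 := by
        rw [conj_pow, pow_orderOf_eq_one, mul_one, mul_inv_cancel]
      rw [hconj, hwr.mul_pow, pow_orderOf_eq_one, mul_one] at h1
      have hw1 : w = 1 := coprime_mem_V hred (hNV hwN.1)
        (hr.coprime_dvd_left (orderOf_dvd_of_pow_eq_one h1))
      rw [hw, commutatorElement_eq_one_iff_mul_comm] at hw1
      exact hw1.symm
    refine Subgroup.mem_centralizer_iff.2 fun r hr => ?_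
    exact Subgroup.mem_centralizer_singleton_iff.1 (hle hr)
  -- `N₀` is central in `N`
  have hNN₀ : ⁅N, N₀⁆ = ⊥ := by
    rw [← hNR]
    refine Subgroup.commutator_commutator_eq_bot_of_rotate ?_ ?_
    · rw [show ⁅R, N₀⁆ = ⊥ from Subgroup.commutator_eq_bot_iff_le_centralizer.2
        (Subgroup.le_centralizer_iff.1 inf_le_right), Subgroup.commutator_bot_left]
    · refine le_bot_iff.1 ((Subgroup.commutator_mono (Subgroup.commutator_le_left N₀ N) le_rfl).trans
        (le_of_eq ?_))
      exact Subgroup.commutator_eq_bot_iff_le_centralizer.2 inf_le_right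
  have hcentral : ∀ n ∈ N, ∀ z ∈ N₀, n * z = z * n := fun n hn z hz =>
    commutatorElement_eq_one_iff_mul_comm.1
      (Subgroup.mem_bot.1 (hNN₀ ▸ Subgroup.commutator_mem_commutator hn hz))
  -- `[N, V] ≤ N₀`
  have hNVN₀ : ⁅N, V⁆ ≤ N₀ := by
    refine hsmall _ (Subgroup.commutator_normal _ _) (Subgroup.commutator_le_left N V) fun he => ?_
    obtain ⟨k, hk⟩ := (Subgroup.isNilpotent_iff_lowerCentralSeries V).1 hVp.isNilpotent
    have h1 : ∀ i, N ≤ V.lowerCentralSeries i := by
      intro i
      induction i with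
      | zero => exact hNV
      | succ i ih =>
        rw [Subgroup.lowerCentralSeries_succ, ← he]
        exact Subgroup.commutator_mono ih le_rfl
    exact hNC (((h1 k).trans hk.le).trans bot_le)
  have hcomm : ∀ x ∈ N, ∀ y ∈ N, ⁅x, y⁆ ∈ N₀ := fun x hx y hy =>
    hNVN₀ (Subgroup.commutator_mem_commutator hx (hNV hy))
  -- exponent `p` modulo `N₀`
  let π : G →* G ⧸ N₀ := QuotientGroup.mk' N₀
  have hπ : ∀ x : G, π x = 1 ↔ x ∈ N₀ := fun x => QuotientGroup.eq_one_iff x
  let T : Subgroup G := N₀ ⊔ Subgroup.closure ((fun n => n ^ p) '' (N : Set G))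
  have hTN : T ≤ N := sup_le inf_le_left ((Subgroup.closure_le _).2 (by
    rintro _ ⟨n, hn, rfl⟩; exact pow_mem hn p))
  have hTn : T.Normal := by
    haveI : (Subgroup.closure ((fun n => n ^ p) '' (N : Set G))).Normal := ⟨fun y hy g => by
      have : Subgroup.closure ((fun n => n ^ p) '' (N : Set G)) ≤
          (Subgroup.closure ((fun n => n ^ p) '' (N : Set G))).comap (MulAut.conj g).toMonoidHom :=
        (Subgroup.closure_le _).2 (by
          rintro _ ⟨n, hn, rfl⟩
          exact Subgroup.subset_closure ⟨g * n * g⁻¹, hNn.conj_mem n hn g, by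
            simp [conj_pow]⟩)
      exact this hy⟩
    exact Subgroup.sup_normal _ _
  have hpow : ∀ n ∈ N, n ^ p ∈ N₀ := by
    intro n hn
    by_cases hT : T = N
    swap
    · exact hsmall T hTn hTN hT (Subgroup.mem_sup_right (Subgroup.subset_closure ⟨n, hn, rfl⟩))
    -- the `p`-th power map on `N / N₀` is onto
    exfalso
    let Q := N.map π
    haveI : IsMulCommutative ↥Q := Subgroup.le_centralizer_iff_isMulCommutative.1 (by
      rintro _ ⟨x, hx, rfl⟩
      refine Subgroup.mem_centralizer_iff.2 ?_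
      rintro _ ⟨y, hy, rfl⟩
      rw [← commutatorElement_eq_one_iff_mul_comm, ← map_commutatorElement]
      exact (hπ _).2 (hcomm y hy x hx))
    letI : CommGroup ↥Q := { (inferInstance : Group ↥Q) with
      mul_comm := fun a b => Subtype.ext (Subgroup.mem_centralizer_iff.1
        (Subgroup.le_centralizer_iff_isMulCommutative.2 inferInstance b.2) a a.2) }
    let φ : ↥Q →* ↥Q := powMonoidHom p
    have hrange : N ≤ (φ.range.map Q.subtype).comap π := by
      refine hT.ge.trans (sup_le (fun z hz => ?_) ((Subgroup.closure_le _).2 ?_))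
      · show π z ∈ φ.range.map Q.subtype
        rw [(hπ z).2 hz]; exact one_mem _
      · rintro _ ⟨m, hm, rfl⟩
        exact ⟨⟨π m, Subgroup.mem_map_of_mem π hm⟩ ^ p, ⟨⟨π m, Subgroup.mem_map_of_mem π hm⟩, rfl⟩,
          (map_pow π m p).symm⟩
    have hsurj : Function.Surjective φ := by
      rintro ⟨y, x, hx, rfl⟩
      obtain ⟨z, ⟨w, hw⟩, hz⟩ := hrange hx
      exact ⟨w, hw.trans (Subtype.ext hz)⟩
    have hinj := Finite.injective_iff_surjective.2 hsurj
    have hNN : N ≤ N₀ := fun x hx => by
      obtain ⟨k, hk⟩ := hVp ⟨x, hNV hx⟩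
      have h1 : ∀ i, φ^[i] ⟨π x, Subgroup.mem_map_of_mem π hx⟩ =
          ⟨π x, Subgroup.mem_map_of_mem π hx⟩ ^ p ^ i := by
        intro i
        induction i with
        | zero => simp
        | succ i ih => rw [Function.iterate_succ_apply', ih, pow_succ, pow_mul]; rfl
      have h2 : φ^[k] ⟨π x, Subgroup.mem_map_of_mem π hx⟩ = φ^[k] 1 := by
        rw [h1, Function.iterate_fixed (map_one φ)]
        refine Subtype.ext ?_
        show π x ^ p ^ k = 1
        rw [← map_pow, show x ^ p ^ k = 1 from congrArg Subtype.val hk, map_one]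
      exact (hπ x).1 (congrArg Subtype.val (hinj.iterate k h2))
    exact hNC (hNN.trans inf_le_right)
  refine ⟨N, N₀, hNn, hN₀n, hNV, ⟨inf_le_left, fun a _ n hn => hNn.conj_mem n hn a,
    fun a _ n hn => hN₀n.conj_mem n hn a, hcentral, hcomm⟩, hpow,
    fun v hv n hn => by
      rw [← commutatorElement_inv]
      exact inv_mem (hNVN₀ (Subgroup.commutator_mem_commutator hn hv)), fun x hx => ?_⟩
  -- the kernel
  let L : Subgroup G := (Subgroup.centralizer ((N.map π : Subgroup (G ⧸ N₀)) : Set (G ⧸ N₀))).comap π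
  haveI : L.Normal := by
    haveI : (N.map π).Normal := Subgroup.Normal.map hNn _ (QuotientGroup.mk'_surjective N₀)
    exact Subgroup.normal_centralizer.comap π
  have hL : ∀ y : G, y ∈ L ↔ ∀ n ∈ N, ⁅y, n⁆ ∈ N₀ := by
    intro y
    rw [Subgroup.mem_comap, Subgroup.mem_centralizer_iff]
    constructor
    · intro h n hn
      rw [← hπ, map_commutatorElement, commutatorElement_eq_one_iff_mul_comm]
      exact (h _ (Subgroup.mem_map_of_mem π hn)).symm
    · rintro h _ ⟨n, hn, rfl⟩
      have := (hπ _).2 (h n hn)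
      rw [map_commutatorElement, commutatorElement_eq_one_iff_mul_comm] at this
      exact this.symm
  by_contra hxV
  have hRL := pResidual_le_of_normal hred (L := L) fun hle => hxV (hle ((hL x).2 hx))
  refine hNC ?_
  rw [← hNR]
  refine (Subgroup.commutator_le.2 fun n hn r hr => ?_).trans (inf_le_right : N₀ ≤ C)
  rw [← commutatorElement_inv]
  exact inv_mem ((hL r).1 (hRL hr) n hn)

end Cfsg.Agent.LocalEvenD.JSolvable
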